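import Cfsg.Agent.S3Fpf.Main
import Mathlib.Algebra.Module.ZMod
import Mathlib.RingTheory.Flat.Basic
import Mathlib.FieldTheory.IsAlgClosed.AlgebraicClosure
import Mathlib.Algebra.CharP.Algebra
import Mathlib.LinearAlgebra.TensorProduct.Tower
import Mathlib.Algebra.Group.Subgroup.ZPowers.Basic
import Mathlib.GroupTheory.Nilpotent

/-!
A solvable group of order prime to six admitting the symmetric group of degree three as a
fixed-point-free group of automorphisms has nilpotent derived group.
-/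

set_option autoImplicit false
set_option linter.style.haveILetI false
set_option linter.unusedSectionVars false
set_option maxHeartbeats 1000000

namespace CfsgLib.S3Fpf

open scoped commutatorElement TensorProduct

universe u

theorem exists_minimal {G : Type u} [Group G] [Finite G] [Nontrivial G] (hG : Group.IsSolvable G) (T : Trio G) :
    ∃ (V : Subgroup G) (r : ℕ), r.Prime ∧ V ≠ ⊥ ∧ V.Normal ∧ T.Stable V ∧
      (∀ a ∈ V, ∀ b ∈ V, a * b = b * a) ∧ (∀ v ∈ V, v ^ r = 1) ∧
      ∀ U : Subgroup G, U ≤ V → U.Normal → T.Stable U → U = ⊥ ∨ U = V := by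
  classical
  obtain ⟨V, hV⟩ := (Set.toFinite {U : Subgroup G | U ≠ ⊥ ∧ U.Normal ∧ T.Stable U}).exists_minimal
    ⟨⊤, top_ne_bot, inferInstance, fun k _ => Subgroup.mem_top _, fun k _ => Subgroup.mem_top _⟩
  obtain ⟨hne, hn, hst⟩ := hV.1
  haveI := hn
  have hmin : ∀ U : Subgroup G, U ≤ V → U.Normal → T.Stable U → U = ⊥ ∨ U = V := by
    intro U hU hUn hUs
    by_contra hc
    push Not at hc
    exact hc.2 (le_antisymm hU (hV.2 ⟨hc.1, hUn, hUs⟩ hU))
  have hcomm : ⁅V, V⁆ = ⊥ := by
    refine (hmin _ (Subgroup.commutator_le_self V) inferInstance ?_).resolve_right fun he => ?_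
    · have : ∀ φ : MulAut G, (∀ v ∈ V, φ v ∈ V) → ∀ x ∈ ⁅V, V⁆, φ x ∈ ⁅V, V⁆ := fun φ hφ x hx => by
        have h1 : (⁅V, V⁆).map φ.toMonoidHom ≤ ⁅V, V⁆ := by
          rw [Subgroup.map_commutator]
          exact Subgroup.commutator_mono (Subgroup.map_le_iff_le_comap.2 hφ) (Subgroup.map_le_iff_le_comap.2 hφ)
        exact h1 ⟨x, hx, rfl⟩
      exact ⟨this T.σ hst.1, this T.τ hst.2⟩
    · haveI := hG
      haveI : Nontrivial V := V.nontrivial_iff_ne_bot.2 hne
      refine (Group.IsSolvable.commutator_lt_top_of_nontrivial (G := V)).ne ?_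
      apply Subgroup.map_injective V.subtype_injective
      rw [Subgroup.map_subtype_commutator, he, ← MonoidHom.range_eq_map, Subgroup.range_subtype]
  have hc : ∀ a ∈ V, ∀ b ∈ V, a * b = b * a := fun a ha b hb =>
    commutatorElement_eq_one_iff_mul_comm.1 (Subgroup.mem_bot.1 (hcomm ▸ Subgroup.commutator_mem_commutator ha hb))
  haveI : Nontrivial V := V.nontrivial_iff_ne_bot.2 hne
  have h1 : Nat.card V ≠ 1 := Finite.one_lt_card.ne'
  obtain ⟨r, hr, hdvd⟩ := Nat.exists_prime_and_dvd h1
  haveI := Fact.mk hr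
  obtain ⟨z, hz⟩ := exists_prime_orderOf_dvd_card' r hdvd
  let U : Subgroup G :=
    { carrier := {v | v ∈ V ∧ v ^ r = 1}
      one_mem' := ⟨V.one_mem, one_pow r⟩
      mul_mem' := fun {a b} ha hb => ⟨V.mul_mem ha.1 hb.1, by
        rw [(show Commute a b from hc a ha.1 b hb.1).mul_pow, ha.2, hb.2, one_mul]⟩
      inv_mem' := fun {a} ha => ⟨V.inv_mem ha.1, by rw [inv_pow, ha.2, inv_one]⟩ }
  have hU : U = V := by
    refine (hmin U (fun v hv => hv.1) ⟨fun v hv g => ⟨hn.conj_mem v hv.1 g, by
      rw [conj_pow, hv.2, mul_one, mul_inv_cancel]⟩⟩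
      ⟨fun v hv => ⟨hst.1 v hv.1, by rw [← map_pow, hv.2, map_one]⟩,
       fun v hv => ⟨hst.2 v hv.1, by rw [← map_pow, hv.2, map_one]⟩⟩).resolve_left fun h0 => ?_
    have hzU : (z : G) ∈ U := ⟨z.2, by rw [← Subgroup.coe_pow, ← hz, pow_orderOf_eq_one]; rfl⟩
    rw [h0, Subgroup.mem_bot, OneMemClass.coe_eq_one] at hzU
    rw [hzU, orderOf_one] at hz
    exact hr.one_lt.ne hz
  exact ⟨V, r, hr, hne, hn, hst, hc, fun v hv => (hU.ge hv).2, hmin⟩

/-- Automorphisms of an elementary abelian group as linear maps. -/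
def autLin {V : Type*} [CommGroup V] (r : ℕ) [Module (ZMod r) (Additive V)] :
    MulAut V →* Module.End (ZMod r) (Additive V) where
  toFun φ := (MonoidHom.toAdditive φ.toMonoidHom).toZModLinearMap r
  map_one' := LinearMap.ext fun _ => rfl
  map_mul' _ _ := LinearMap.ext fun _ => rfl

theorem autLin_apply {V : Type*} [CommGroup V] (r : ℕ) [Module (ZMod r) (Additive V)] (φ : MulAut V) (v : V) :
    autLin r φ (Additive.ofMul v) = Additive.ofMul (φ v) := rfl

theorem autLin_injective {V : Type*} [CommGroup V] (r : ℕ) [Module (ZMod r) (Additive V)] :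
    Function.Injective (autLin r : MulAut V →* Module.End (ZMod r) (Additive V)) := fun _ _ h =>
  MulEquiv.ext fun v => Additive.ofMul.injective (LinearMap.congr_fun h (Additive.ofMul v))

/-- Compatible faithful action on an irreducible elementary module: no normal `r`-subgroup. -/
theorem fixed_ne_bot {V H : Type*} [Group V] [Finite V] [Group H] [Finite H] {r : ℕ} [Fact r.Prime]
    (hV : IsPGroup r V) [Nontrivial V] (ρ : H →* MulAut V) (R : Subgroup H) (hR : IsPGroup r R) :
    ∃ v : V, v ≠ 1 ∧ ∀ g ∈ R, ρ g v = v := by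
  let _ : MulAction R V :=
    { smul := fun g v => ρ g v
      one_smul := fun v => by show ρ (1 : H) v = v; rw [map_one]; rfl
      mul_smul := fun a b v => by show ρ ((a : H) * b) v = _; rw [map_mul]; rfl }
  obtain ⟨k, hk⟩ := hV.exists_card_eq
  have hd : r ∣ Nat.card V := by
    rw [hk]
    refine dvd_pow_self r fun h0 => ?_
    have : 1 < Nat.card V := Finite.one_lt_card
    rw [hk, h0, pow_zero] at this
    omega
  obtain ⟨v, hv, hne⟩ := hR.exists_fixed_point_of_prime_dvd_card_of_fixed_point V hd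
    (a := (1 : V)) (fun g => map_one (ρ (g : H)))
  exact ⟨v, fun h => hne h.symm, fun g hg => hv ⟨g, hg⟩⟩

theorem derived_nilpotent : ∀ (n : ℕ) (G : Type u) [Group G] [Finite G] (T : Trio G), Nat.card G = n →
    Group.IsSolvable G → Group.IsNilpotent (commutator G) := by
  intro n
  induction n using Nat.strong_induction_on with
  | _ n ih =>
  intro G _ _ T hn hG
  subst hn
  rcases subsingleton_or_nontrivial G with hG1 | hG1
  · exact inferInstance
  obtain ⟨V, r, hr, hV0, hVn, hVst, hVc, hVexp, hVmin⟩ := exists_minimal hG T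
  haveI := hVn
  haveI := hG
  haveI := Fact.mk hr
  haveI : Nontrivial V := V.nontrivial_iff_ne_bot.2 hV0
  letI : CommGroup V :=
    { (inferInstance : Group V) with mul_comm := fun a b => Subtype.ext (hVc a a.2 b b.2) }
  have hVp : IsPGroup r V := fun v => ⟨1, Subtype.ext (by rw [pow_one, Subgroup.coe_pow]; exact hVexp v v.2)⟩
  have hrG : r ∣ Nat.card G := by
    obtain ⟨v, hv⟩ := exists_ne (1 : V)
    have h1 : orderOf (v : G) = r := orderOf_eq_prime (hVexp v v.2) fun h => hv (Subtype.ext h)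
    exact h1 ▸ orderOf_dvd_natCard _
  have hr6 : r ≠ 2 ∧ r ≠ 3 := by
    constructor <;> intro h
    · exact hr.one_lt.ne' (Nat.eq_one_of_dvd_coprimes T.cop hrG (h ▸ by norm_num))
    · exact hr.one_lt.ne' (Nat.eq_one_of_dvd_coprimes T.cop hrG (h ▸ by norm_num))
  -- the quotient modulo the kernel of the action on `V`
  let ρ₀ : G →* MulAut V := MulAut.conjNormal
  have hρ : ∀ (g : G) (v : V), ((ρ₀ g v : V) : G) = g * v * g⁻¹ := fun g v => rfl
  have hVle : V ≤ ρ₀.ker := fun x hx => by
    rw [MonoidHom.mem_ker]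
    ext v
    rw [hρ, MulAut.one_apply, hVc x hx v v.2, mul_inv_cancel_right]
  let aut : ∀ φ : MulAut G, (∀ v ∈ V, φ v ∈ V) → MulAut V := fun φ hφ =>
    MulEquiv.ofBijective ((φ.toMonoidHom.comp V.subtype).codRestrict V fun v => hφ v v.2)
      (Finite.injective_iff_bijective.1 fun a b h => Subtype.ext (φ.injective (congrArg Subtype.val h)))
  have haut : ∀ φ hφ (v : V), ((aut φ hφ v : V) : G) = φ v := fun φ hφ v => rfl
  set a := aut T.σ hVst.1 with ha
  set b := aut T.τ hVst.2 with hb
  have hcompat : ∀ φ hφ g v, ρ₀ (φ g) (aut φ hφ v) = aut φ hφ (ρ₀ g v) := fun φ hφ g v =>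
    Subtype.ext (by rw [hρ, haut, haut, hρ, map_mul, map_mul, map_inv])
  have hker : T.Stable ρ₀.ker := by
    have : ∀ φ : MulAut G, ∀ hφ : (∀ v ∈ V, φ v ∈ V), ∀ g ∈ ρ₀.ker, φ g ∈ ρ₀.ker := fun φ hφ g hg => by
      rw [MonoidHom.mem_ker] at hg ⊢
      ext v
      obtain ⟨w, rfl⟩ := (aut φ hφ).surjective v
      rw [hcompat, hg]
      rfl
    exact ⟨this T.σ hVst.1, this T.τ hVst.2⟩
  set TH := T.quot ρ₀.ker hker with hTH
  let ρ : G ⧸ ρ₀.ker →* MulAut V := QuotientGroup.kerLift ρ₀
  have hρinj : Function.Injective ρ := QuotientGroup.kerLift_injective ρ₀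
  have hsolQ : Group.IsSolvable (G ⧸ ρ₀.ker) := inferInstance
  have hlt : Nat.card (G ⧸ ρ₀.ker) < Nat.card G := by
    rw [Subgroup.card_eq_card_quotient_mul_card_subgroup ρ₀.ker]
    refine lt_mul_right Nat.card_pos ?_
    exact lt_of_lt_of_le Finite.one_lt_card (Subgroup.card_le_of_le hVle)
  have hnilD : Group.IsNilpotent (commutator (G ⧸ ρ₀.ker)) := ih _ hlt _ TH rfl hsolQ
  -- no `r`-part in nilpotent invariant normal subgroups
  have hnor : ∀ N : Subgroup (G ⧸ ρ₀.ker), N.Normal → TH.Stable N → Group.IsNilpotent N → ¬ r ∣ Nat.card N := by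
    intro N hN hNst hNnil hd
    haveI := hN
    haveI := hNnil
    let P : Sylow r N := default
    haveI : (P : Subgroup N).Normal :=
      Sylow.normal_of_normalizerCondition (Group.normalizerCondition_of_isNilpotent) P
    haveI : (P : Subgroup N).Characteristic := P.characteristic_of_normal inferInstance
    set R := (P : Subgroup N).map N.subtype with hR
    haveI hRn : R.Normal := ConjAct.normal_of_characteristic_of_normal
    have hmem : ∀ x : N, (∃ j, orderOf x = r ^ j) → x ∈ (P : Subgroup N) := by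
      intro x ⟨j, hj⟩
      obtain ⟨Q, hQ⟩ := (IsPGroup.of_card (p := r) (n := j) (by rw [Nat.card_zpowers, hj]) :
        IsPGroup r (Subgroup.zpowers x)).exists_le_sylow
      haveI : Unique (Sylow r N) := Sylow.unique_of_normal P inferInstance
      rw [Subsingleton.elim P Q]
      exact hQ (Subgroup.mem_zpowers x)
    have hRst : TH.Stable R := by
      have : ∀ φ : MulAut (G ⧸ ρ₀.ker), (∀ k ∈ N, φ k ∈ N) → ∀ k ∈ R, φ k ∈ R := by
        rintro φ hφ _ ⟨x, hx, rfl⟩
        refine ⟨⟨φ x, hφ _ x.2⟩, hmem _ ?_, rfl⟩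
        obtain ⟨j, hj⟩ := IsPGroup.iff_orderOf.1 P.2 ⟨x, hx⟩
        refine ⟨j, ?_⟩
        rw [← Subgroup.orderOf_coe] at hj ⊢
        show orderOf (φ x) = _
        rw [MulEquiv.orderOf_eq, Subgroup.orderOf_coe]
        exact hj
      exact ⟨this _ hNst.1, this _ hNst.2⟩
    have hRp : IsPGroup r R := P.2.map _
    obtain ⟨v, hv1, hvfix⟩ := fixed_ne_bot hVp ρ R hRp
    let W : Subgroup G :=
      { carrier := {x | ∃ hx : x ∈ V, ∀ g ∈ R, ρ g ⟨x, hx⟩ = ⟨x, hx⟩}
        one_mem' := ⟨V.one_mem, fun g _ => map_one (ρ g)⟩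
        mul_mem' := fun {x y} ⟨hx, hx'⟩ ⟨hy, hy'⟩ => ⟨V.mul_mem hx hy, fun g hg => by
          have := map_mul (ρ g) ⟨x, hx⟩ ⟨y, hy⟩
          rw [hx' g hg, hy' g hg] at this
          exact this⟩
        inv_mem' := fun {x} ⟨hx, hx'⟩ => ⟨V.inv_mem hx, fun g hg => by
          have := map_inv (ρ g) ⟨x, hx⟩
          rw [hx' g hg] at this
          exact this⟩ }
    have hWn : W.Normal := ⟨fun x hxW g => ⟨hVn.conj_mem x hxW.1 g, fun c hc => by
      obtain ⟨hx, hx'⟩ := hxW
      have e : (⟨g * x * g⁻¹, hVn.conj_mem x hx g⟩ : V) = ρ (g : G ⧸ ρ₀.ker) ⟨x, hx⟩ := Subtype.ext (hρ g ⟨x, hx⟩).symm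
      rw [e, ← MulAut.mul_apply, ← map_mul,
        show c * (g : G ⧸ ρ₀.ker) = (g : G ⧸ ρ₀.ker) * ((g : G ⧸ ρ₀.ker)⁻¹ * c * g) by group,
        map_mul, MulAut.mul_apply, hx' _ (hRn.conj_mem' c hc _)]⟩⟩
    have hWst : T.Stable W := by
      have : ∀ (φ : MulAut G) (hφ : ∀ v ∈ V, φ v ∈ V) (ψ : MulAut (G ⧸ ρ₀.ker)),
          (∀ g : G, ψ (g : G ⧸ ρ₀.ker) = ((φ g : G) : G ⧸ ρ₀.ker)) → (∀ c ∈ R, ψ c ∈ R) →
          ∀ x ∈ W, φ x ∈ W := by
        rintro φ hφ ψ hψ hψR x ⟨hx, hx'⟩
        refine ⟨hφ x hx, fun c hc => ?_⟩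
        obtain ⟨c', hc', rfl⟩ : ∃ c' ∈ R, ψ c' = c := by
          have := (Trio.map_eq (φ := ψ) hψR).ge hc
          obtain ⟨c', h1, h2⟩ := this
          exact ⟨c', h1, h2⟩
        induction c' using QuotientGroup.induction_on with
        | _ g =>
          rw [hψ]
          show ρ₀ (φ g) (aut φ hφ ⟨x, hx⟩) = aut φ hφ ⟨x, hx⟩
          rw [hcompat]
          exact congrArg _ (hx' _ hc')
      exact ⟨this T.σ hVst.1 TH.σ (fun g => rfl) hRst.1, this T.τ hVst.2 TH.τ (fun g => rfl) hRst.2⟩
    rcases hVmin W (fun x hx => hx.1) hWn hWst with hW | hW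
    · exact hv1 (Subtype.ext (Subgroup.mem_bot.1 (hW ▸ (⟨v.2, hvfix⟩ : (v : G) ∈ W))))
    · have hbot : R = ⊥ := by
        rw [eq_bot_iff]
        intro c hc
        rw [Subgroup.mem_bot]
        refine hρinj ?_
        rw [map_one]
        ext w
        obtain ⟨_, hw⟩ := hW.ge w.2
        exact congrArg Subtype.val (hw c hc)
      have hP := (Subgroup.map_eq_bot_iff_of_injective _ N.subtype_injective).1 hbot
      have := P.dvd_card_of_dvd_card hd
      rw [hP, Subgroup.card_bot, Nat.dvd_one] at this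
      exact hr.ne_one this
  -- the linear representation
  let k := AlgebraicClosure (ZMod r)
  letI instM : Module (ZMod r) (Additive V) :=
    AddCommGroup.zmodModule (n := r) (G := Additive V) (fun v => by
      show Additive.ofMul (Additive.toMul v ^ r) = _
      rw [show Additive.toMul v ^ r = 1 from Subtype.ext (by rw [Subgroup.coe_pow]; exact hVexp _ (Additive.toMul v).2)]
      rfl)
  have hM : Module (ZMod r) (Additive V) := inferInstance
  let lin : MulAut V →* Module.End (ZMod r) (Additive V) := autLin r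
  have hlin : Function.Injective lin := autLin_injective r
  let bc : Module.End (ZMod r) (Additive V) →* Module.End k (k ⊗[ZMod r] Additive V) :=
    (Module.End.baseChangeHom (ZMod r) k (Additive V)).toRingHom.toMonoidHom
  have hbc : Function.Injective bc := LinearMap.baseChangeHom_injective (ZMod r) (Additive V) k
  let L : MulAut V →* Module.End k (k ⊗[ZMod r] Additive V) := bc.comp lin
  haveI hchar : CharP k r := charP_of_injective_algebraMap (algebraMap (ZMod r) k).injective r
  have hcast : ∀ m : ℕ, ¬ r ∣ m → ((m : ℕ) : k) ≠ 0 := fun m hm h => hm ((CharP.cast_eq_zero_iff k r m).1 h)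
  have hzero' : ((1 : Module.End (ZMod r) (Additive V)) + lin a + lin a * lin a) * (1 + lin b) = 0 := by
    refine LinearMap.ext fun v => ?_
    obtain ⟨v, rfl⟩ := Additive.ofMul.surjective v
    set w : V := v * b v with hw
    set z : V := w * a w * a (a w) with hz
    have haσ : a z = z := by
      rw [hz, map_mul, map_mul, show a (a (a w)) = w from Subtype.ext (T.σ3 w)]
      ac_rfl
    have hab : ∀ u : V, b (a u) = a (a (b u)) := fun u => Subtype.ext (T.τσ u)
    have hba : ∀ u : V, b (a (a u)) = a (b u) := fun u => Subtype.ext (T.τσσ u)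
    have hbw : b w = w := by
      rw [hw, map_mul, show b (b v) = v from Subtype.ext (T.τ2 v)]
      ac_rfl
    have hbτ : b z = z := by
      rw [hz, map_mul, map_mul, hab, hba, hbw]
      ac_rfl
    have : z = 1 := Subtype.ext (T.fpf z (congrArg Subtype.val haσ) (congrArg Subtype.val hbτ))
    exact congrArg Additive.ofMul this
  let R : Rep TH k (k ⊗[ZMod r] Additive V) :=
    { ρ := L.comp ρ
      s := L a
      t := L b
      s3 := by
        rw [← map_mul, ← map_mul, show a * a * a = 1 from MulEquiv.ext fun v => Subtype.ext (T.σ3 v), map_one]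
      t2 := by
        rw [← map_mul, show b * b = 1 from MulEquiv.ext fun v => Subtype.ext (T.τ2 v), map_one]
      ts := by
        rw [← map_mul, ← map_mul, ← map_mul, show b * a = a * a * b from MulEquiv.ext fun v => Subtype.ext (T.τσ v)]
      cs := fun q => by
        induction q using QuotientGroup.induction_on with
        | _ g =>
          show L a * L (ρ₀ g) = L (ρ₀ (T.σ g)) * L a
          rw [← map_mul, ← map_mul]
          exact congrArg L (MulEquiv.ext fun v => (hcompat T.σ hVst.1 g v).symm)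
      ct := fun q => by
        induction q using QuotientGroup.induction_on with
        | _ g =>
          show L b * L (ρ₀ g) = L (ρ₀ (T.τ g)) * L b
          rw [← map_mul, ← map_mul]
          exact congrArg L (MulEquiv.ext fun v => (hcompat T.τ hVst.2 g v).symm)
      zero := by
        have h := congrArg (Module.End.baseChangeHom (ZMod r) k (Additive V)) hzero'
        simp only [map_mul, map_add, map_one, map_zero] at h
        exact h
      inj := (hbc.comp hlin).comp hρinj
      two := by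
        have := hcast 2 fun h => hr6.1 ((Nat.prime_dvd_prime_iff_eq hr Nat.prime_two).1 h)
        simpa using this
      three := by
        have := hcast 3 fun h => hr6.2 ((Nat.prime_dvd_prime_iff_eq hr Nat.prime_three).1 h)
        simpa using this }
  have hstD : TH.Stable (commutator (G ⧸ ρ₀.ker)) := by
    have : ∀ φ : MulAut (G ⧸ ρ₀.ker), ∀ d ∈ commutator (G ⧸ ρ₀.ker), φ d ∈ commutator (G ⧸ ρ₀.ker) := fun φ d hd => by
      have h1 : (commutator (G ⧸ ρ₀.ker)).map φ.toMonoidHom ≤ commutator (G ⧸ ρ₀.ker) := by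
        rw [commutator_def, Subgroup.map_commutator]
        exact Subgroup.commutator_mono le_top le_top
      exact h1 ⟨d, hd, rfl⟩
    exact ⟨this _, this _⟩
  set C := Subgroup.centralizer ((commutator (G ⧸ ρ₀.ker) : Subgroup (G ⧸ ρ₀.ker)) : Set (G ⧸ ρ₀.ker)) with hC
  have hCst : TH.Stable C := by
    have : ∀ φ : MulAut (G ⧸ ρ₀.ker), (∀ d ∈ commutator (G ⧸ ρ₀.ker), φ d ∈ commutator (G ⧸ ρ₀.ker)) →
        ∀ c ∈ C, φ c ∈ C := fun φ hφ c hc => Subgroup.mem_centralizer_iff.2 fun d hd => by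
      obtain ⟨d', hd', rfl⟩ := (Trio.map_eq (φ := φ) hφ).ge hd
      show φ d' * φ c = φ c * φ d'
      rw [← map_mul, ← map_mul, Subgroup.mem_centralizer_iff.1 hc d' hd']
    exact ⟨this _ hstD.1, this _ hstD.2⟩
  have hCnil : Group.IsNilpotent C := by
    refine Subgroup.isNilpotent_of_ker_le_center ((Abelianization.of (G := G ⧸ ρ₀.ker)).comp C.subtype)
      (fun c hc => Subgroup.mem_center_iff.2 fun e => Subtype.ext ?_)
    have : (c : G ⧸ ρ₀.ker) ∈ commutator (G ⧸ ρ₀.ker) := (QuotientGroup.eq_one_iff _).1 hc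
    exact (Subgroup.mem_centralizer_iff.1 e.2 _ this).symm
  have hcomm : ∀ g h : G ⧸ ρ₀.ker, g * h = h * g := by
    refine comm_of_rep _ TH R rfl hsolQ (hcast _ (hnor _ inferInstance hstD hnilD)) fun g hg => hcast _ fun hd => ?_
    have hgC : g ∈ C := Subgroup.mem_centralizer_iff.2 fun d hd => (hg d hd).symm
    exact hnor C inferInstance hCst hCnil (hd.trans (Subgroup.orderOf_dvd_natCard _ hgC))
  -- conclusion
  have hquot : Group.IsNilpotent (commutator (G ⧸ V)) := by
    refine ih (Nat.card (G ⧸ V)) ?_ _ (T.quot V hVst) rfl inferInstance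
    rw [Subgroup.card_eq_card_quotient_mul_card_subgroup V]
    exact lt_mul_right Nat.card_pos Finite.one_lt_card
  have hle : commutator G ≤ ρ₀.ker := by
    rw [commutator_def, Subgroup.commutator_le]
    intro x _ y _
    rw [← QuotientGroup.eq_one_iff, ← QuotientGroup.mk'_apply, map_commutatorElement,
      commutatorElement_eq_one_iff_mul_comm]
    exact hcomm _ _
  haveI := hquot
  let f : commutator G →* commutator (G ⧸ V) :=
    ((QuotientGroup.mk' V).comp (commutator G).subtype).codRestrict _ fun x => by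
      have h : QuotientGroup.mk' V (x : G) ∈
          Subgroup.map (QuotientGroup.mk' V) (⁅(⊤ : Subgroup G), (⊤ : Subgroup G)⁆) :=
        Subgroup.mem_map_of_mem _ x.2
      rw [Subgroup.map_commutator] at h
      exact Subgroup.commutator_mono le_top le_top h
  refine Subgroup.isNilpotent_of_ker_le_center f ?_
  intro x hx
  rw [Subgroup.mem_center_iff]
  intro g
  have hxV : (x : G) ∈ V := by
    have h1 : ((f x : commutator (G ⧸ V)) : G ⧸ V) = 1 := by
      rw [MonoidHom.mem_ker.1 hx]; rfl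
    exact (QuotientGroup.eq_one_iff (x : G)).1 h1
  have hg : ρ₀ g = 1 := MonoidHom.mem_ker.1 (hle g.2)
  have h2 : ((ρ₀ g ⟨x, hxV⟩ : V) : G) = x := by rw [hg]; rfl
  rw [hρ, mul_inv_eq_iff_eq_mul] at h2
  exact Subtype.ext h2

end CfsgLib.S3Fpf
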