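import Mathlib.GroupTheory.QuotientGroup.Basic
import Mathlib.GroupTheory.Sylow
import Mathlib.GroupTheory.OrderOfElement
import Mathlib.GroupTheory.Perm.Cycle.Type
import Mathlib.Algebra.Group.End

/-!
A fixed-point-free action of the symmetric group of degree three on a group of order prime to six,
given by two automorphisms.
-/

set_option autoImplicit false
set_option linter.style.haveILetI false
set_option linter.unusedSectionVars false

namespace CfsgLib.S3Fpf

/-- Automorphisms `σ, τ` satisfying the relations of the symmetric group of degree three and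
having no common fixed point. -/
structure Trio (H : Type*) [Group H] where
  σ : MulAut H
  τ : MulAut H
  σ3 : ∀ h, σ (σ (σ h)) = h
  τ2 : ∀ h, τ (τ h) = h
  τσ : ∀ h, τ (σ h) = σ (σ (τ h))
  fpf : ∀ h, σ h = h → τ h = h → h = 1
  cop : (Nat.card H).Coprime 6

/-- A subgroup stable under both automorphisms. -/
def Trio.Stable {H : Type*} [Group H] (T : Trio H) (K : Subgroup H) : Prop :=
  (∀ k ∈ K, T.σ k ∈ K) ∧ ∀ k ∈ K, T.τ k ∈ K

variable {H : Type*} [Group H] [Finite H] (T : Trio H)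

namespace Trio

include T in
theorem cop2 : (Nat.card H).Coprime 2 := T.cop.coprime_dvd_right (by norm_num)

include T in
theorem cop3 : (Nat.card H).Coprime 3 := T.cop.coprime_dvd_right (by norm_num)

theorem τσσ (h : H) : T.τ (T.σ (T.σ h)) = T.σ (T.τ h) := by
  rw [T.τσ, T.τσ, T.σ3]

theorem στσσ (h : H) : T.σ (T.τ (T.σ (T.σ h))) = T.σ (T.σ (T.τ h)) := by
  rw [T.τσσ]

theorem mem_of_pow_mem {n : ℕ} (hn : (Nat.card H).Coprime n) {S : Subgroup H} {x : H}
    (hx : x ^ n ∈ S) : x ∈ S := by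
  obtain ⟨m, hm⟩ := exists_pow_eq_self_of_coprime (x := x) (n := n)
    (hn.coprime_dvd_left (orderOf_dvd_natCard x)).symm
  rw [← hm]
  exact S.pow_mem hx m

theorem eq_one_of_pow {n : ℕ} (hn : (Nat.card H).Coprime n) {x : H} (hx : x ^ n = 1) : x = 1 :=
  Subgroup.mem_bot.1 (mem_of_pow_mem hn (S := ⊥) (Subgroup.mem_bot.2 hx))

theorem exists_fixed_perm {p : ℕ} [Fact p.Prime] {α : Type*} [Finite α] (hcard : ¬ p ∣ Nat.card α)
    (e : Equiv.Perm α) (he : e ^ p = 1) : ∃ a, e a = a := by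
  classical
  haveI := Fintype.ofFinite α
  rw [Nat.card_eq_fintype_card] at hcard
  exact Equiv.Perm.exists_fixed_point_of_prime (n := 1) hcard (by rwa [pow_one])

/-- A coset of a stable normal subgroup fixed by both automorphisms is the trivial one. -/
theorem mem_of_fixed {K : Subgroup H} [K.Normal] (hK : T.Stable K) {h : H}
    (hσ : h⁻¹ * T.σ h ∈ K) (hτ : h⁻¹ * T.τ h ∈ K) : h ∈ K := by
  haveI : Fact (Nat.Prime 2) := ⟨Nat.prime_two⟩
  haveI : Fact (Nat.Prime 3) := ⟨Nat.prime_three⟩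
  have hmove : ∀ (φ : MulAut H), (∀ k ∈ K, φ k ∈ K) → ∀ g : H, h⁻¹ * φ h ∈ K → h⁻¹ * g ∈ K → h⁻¹ * φ g ∈ K := by
    intro φ hφ g h1 h2
    have h3 := K.mul_mem h1 (hφ _ h2)
    simpa [mul_assoc] using h3
  have hKc : ∀ p : ℕ, p.Prime → p ∣ 6 → ¬ p ∣ Nat.card K := fun p hp h6 hd =>
    hp.ne_one (Nat.eq_one_of_dvd_coprimes T.cop (hd.trans K.card_subgroup_dvd_card) h6)
  let C := {g : H // h⁻¹ * g ∈ K}
  have hC : Nat.card C = Nat.card K := Nat.card_congr ((Equiv.mulLeft h⁻¹).subtypeEquiv fun g => Iff.rfl)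
  let eσ : Equiv.Perm C :=
    { toFun := fun g => ⟨T.σ g.1, hmove T.σ hK.1 g.1 hσ g.2⟩
      invFun := fun g => ⟨T.σ (T.σ g.1), hmove T.σ hK.1 _ hσ (hmove T.σ hK.1 g.1 hσ g.2)⟩
      left_inv := fun g => Subtype.ext (T.σ3 g.1)
      right_inv := fun g => Subtype.ext (T.σ3 g.1) }
  obtain ⟨g₁, hg₁⟩ := exists_fixed_perm (p := 3) (hC ▸ hKc 3 Nat.prime_three (by norm_num)) eσ
    (Equiv.ext fun g => by simp only [pow_succ, pow_zero, one_mul, Equiv.Perm.mul_apply]; exact Subtype.ext (T.σ3 g.1))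
  have hg₁' : T.σ g₁.1 = g₁.1 := congrArg Subtype.val hg₁
  -- the fixed points of `σ` in the coset
  let C₁ := {g : C // T.σ g.1 = g.1}
  let F : Subgroup H :=
    { carrier := {k | k ∈ K ∧ T.σ k = k}
      one_mem' := ⟨K.one_mem, map_one _⟩
      mul_mem' := fun {a b} ha hb => ⟨K.mul_mem ha.1 hb.1, by rw [map_mul, ha.2, hb.2]⟩
      inv_mem' := fun {a} ha => ⟨K.inv_mem ha.1, by rw [map_inv, ha.2]⟩ }
  have hC₁ : Nat.card C₁ = Nat.card F := by
    refine Nat.card_congr
      { toFun := fun g => ⟨g₁.1⁻¹ * g.1.1, ⟨?_, by rw [map_mul, map_inv, g.2, hg₁']⟩⟩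
        invFun := fun k => ⟨⟨g₁.1 * k.1, ?_⟩, by rw [map_mul, hg₁', k.2.2]⟩
        left_inv := fun g => by simp
        right_inv := fun k => by simp }
    · have := K.mul_mem (K.inv_mem g₁.2) g.1.2
      simpa [mul_assoc] using this
    · have := K.mul_mem g₁.2 k.2.1
      simpa [mul_assoc] using this
  have hfix : ∀ g : H, T.σ g = g → T.σ (T.τ g) = T.τ g := fun g hg => by
    rw [← T.τσσ, hg, hg]
  let eτ : Equiv.Perm C₁ :=
    { toFun := fun g => ⟨⟨T.τ g.1.1, hmove T.τ hK.2 g.1.1 hτ g.1.2⟩, hfix _ g.2⟩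
      invFun := fun g => ⟨⟨T.τ g.1.1, hmove T.τ hK.2 g.1.1 hτ g.1.2⟩, hfix _ g.2⟩
      left_inv := fun g => Subtype.ext (Subtype.ext (T.τ2 g.1.1))
      right_inv := fun g => Subtype.ext (Subtype.ext (T.τ2 g.1.1)) }
  have hodd : ¬ 2 ∣ Nat.card C₁ := fun hd => by
    rw [hC₁] at hd
    exact Nat.prime_two.ne_one (Nat.eq_one_of_dvd_coprimes T.cop2 (hd.trans F.card_subgroup_dvd_card) dvd_rfl)
  obtain ⟨g₂, hg₂⟩ := exists_fixed_perm (p := 2) hodd eτ
    (Equiv.ext fun g => by simp only [pow_succ, pow_zero, one_mul, Equiv.Perm.mul_apply]; exact Subtype.ext (Subtype.ext (T.τ2 g.1.1)))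
  have h1 : g₂.1.1 = 1 := T.fpf _ g₂.2 (congrArg (fun g : C₁ => g.1.1) hg₂)
  have h2 := g₂.1.2
  rw [h1, mul_one] at h2
  exact inv_mem_iff.1 h2

theorem map_eq {K : Subgroup H} {φ : MulAut H} (hK : ∀ k ∈ K, φ k ∈ K) : K.map φ.toMonoidHom = K :=
  Subgroup.eq_of_le_of_card_ge (Subgroup.map_le_iff_le_comap.2 hK)
    (Subgroup.card_map_of_injective φ.injective).ge

/-- The action on a quotient. -/
noncomputable def quot (K : Subgroup H) [K.Normal] (hK : T.Stable K) : Trio (H ⧸ K) where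
  σ := QuotientGroup.congr K K T.σ (map_eq hK.1)
  τ := QuotientGroup.congr K K T.τ (map_eq hK.2)
  σ3 q := by
    induction q using QuotientGroup.induction_on with
    | _ g => exact congrArg (QuotientGroup.mk (s := K)) (T.σ3 g)
  τ2 q := by
    induction q using QuotientGroup.induction_on with
    | _ g => exact congrArg (QuotientGroup.mk (s := K)) (T.τ2 g)
  τσ q := by
    induction q using QuotientGroup.induction_on with
    | _ g => exact congrArg (QuotientGroup.mk (s := K)) (T.τσ g)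
  fpf q := by
    induction q using QuotientGroup.induction_on with
    | _ g =>
      intro h1 h2
      exact (QuotientGroup.eq_one_iff g).2
        (T.mem_of_fixed hK (QuotientGroup.eq.1 h1.symm) (QuotientGroup.eq.1 h2.symm))
  cop := T.cop.coprime_dvd_left (by rw [← Subgroup.index_eq_card]; exact Subgroup.index_dvd_card K)

theorem quot_σ_mk (K : Subgroup H) [K.Normal] (hK : T.Stable K) (g : H) :
    (T.quot K hK).σ (g : H ⧸ K) = ((T.σ g : H) : H ⧸ K) := rfl

theorem quot_τ_mk (K : Subgroup H) [K.Normal] (hK : T.Stable K) (g : H) :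
    (T.quot K hK).τ (g : H ⧸ K) = ((T.τ g : H) : H ⧸ K) := rfl

/-- The action on a stable subgroup. -/
def sub (K : Subgroup H) (hK : T.Stable K) : Trio K where
  σ :=
    { toFun := fun k => ⟨T.σ k, hK.1 _ k.2⟩
      invFun := fun k => ⟨T.σ (T.σ k), hK.1 _ (hK.1 _ k.2)⟩
      left_inv := fun k => Subtype.ext (T.σ3 k)
      right_inv := fun k => Subtype.ext (T.σ3 k)
      map_mul' := fun a b => Subtype.ext (map_mul T.σ (a : H) b) }
  τ :=
    { toFun := fun k => ⟨T.τ k, hK.2 _ k.2⟩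
      invFun := fun k => ⟨T.τ k, hK.2 _ k.2⟩
      left_inv := fun k => Subtype.ext (T.τ2 k)
      right_inv := fun k => Subtype.ext (T.τ2 k)
      map_mul' := fun a b => Subtype.ext (map_mul T.τ (a : H) b) }
  σ3 k := Subtype.ext (T.σ3 k)
  τ2 k := Subtype.ext (T.τ2 k)
  τσ k := Subtype.ext (T.τσ k)
  fpf k h1 h2 := Subtype.ext (T.fpf k (congrArg Subtype.val h1) (congrArg Subtype.val h2))
  cop := T.cop.coprime_dvd_left K.card_subgroup_dvd_card

/-- If `σ` is trivial then the group is commutative. -/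
theorem comm_of_σ_trivial (hσ : ∀ g, T.σ g = g) (a b : H) : a * b = b * a := by
  have hinj : Function.Injective fun g : H => g⁻¹ * T.τ g := by
    intro x y hxy
    simp only at hxy
    have : T.τ (y * x⁻¹) = y * x⁻¹ := by
      rw [map_mul, map_inv, mul_inv_eq_iff_eq_mul, mul_assoc, hxy, mul_inv_cancel_left]
    exact (mul_inv_eq_one.1 (T.fpf _ (hσ _) this)).symm
  have hinv : ∀ g, T.τ g = g⁻¹ := by
    intro g
    obtain ⟨x, rfl⟩ := Finite.surjective_of_injective hinj g
    simp only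
    rw [map_mul, map_inv, T.τ2, mul_inv_rev, inv_inv]
  have h := hinv (a * b)
  rw [map_mul, hinv, hinv, ← mul_inv_rev, inv_inj] at h
  exact h.symm

end Trio

end CfsgLib.S3Fpf
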