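import Mathlib.Algebra.Algebra.Basic
import Mathlib.Algebra.Ring.Subring.Basic
import Mathlib.Algebra.Group.Units.Basic
import Mathlib.GroupTheory.OrderOfElement
import Mathlib.Tactic.LinearCombination
import Mathlib.Tactic.Group
import Mathlib.Tactic.NoncommRing

/-!
The elementary substitute for the theorem of Hall and Higman: an element of order three with
quadratic minimal polynomial on a module, twisted by a pair of units.
-/

set_option autoImplicit false
set_option linter.style.haveILetI false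
set_option linter.unusedSectionVars false

namespace CfsgLib.S3Fpf

section

variable {k R : Type*} [Field k] [Ring R] [Algebra k R]

/-- The basic identity. -/
theorem quad_identity (X Y s : Rˣ) (ε : k) (hε : ε ≠ 0) (h2 : (s : R) * s + s + 1 = 0)
    (hXs : (X : R) * s * (X * s) + X * s + 1 = 0) (hsX : s * X = Y * s)
    (hXY : (X : R) * Y = ε • ((Y : R) * X)) :
    (X : R) + (X⁻¹ : Rˣ) = ε • (Y : R) + ε⁻¹ • ((Y⁻¹ : Rˣ) : R) := by
  have hsX' : (s : R) * X = Y * s := by exact_mod_cast congrArg (fun u : Rˣ => (u : R)) hsX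
  have h1 : (X : R) * Y * (s * s) + X * s + 1 = 0 := by
    rw [← hXs, mul_assoc (X : R) s, ← mul_assoc (s : R) X s, hsX']
    simp only [mul_assoc]
  have hss : (s : R) * s = -(s : R) - 1 := by
    rw [← sub_eq_zero]; rw [← h2]; abel
  rw [hss] at h1
  have h1' : (X : R) * ((1 - (Y : R)) * s) = X * Y - 1 := by
    rw [← sub_eq_zero, ← h1]; noncomm_ring
  -- multiply by `X⁻¹`
  have hE : (1 - (Y : R)) * s = Y - (X⁻¹ : Rˣ) := by
    have h := congrArg (fun z : R => ((X⁻¹ : Rˣ) : R) * z) h1'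
    simp only [mul_sub, mul_one, ← mul_assoc, Units.inv_mul, one_mul] at h
    rw [sub_mul, one_mul] at h
    rw [sub_mul, one_mul]
    exact h
  have hc : (X : R) * Y * (X⁻¹ : Rˣ) = ε • (Y : R) := by
    rw [hXY, smul_mul_assoc, mul_assoc, Units.mul_inv, mul_one]
  have hsX2 : (s : R) * (X⁻¹ : Rˣ) = (Y⁻¹ : Rˣ) * s := by
    have h : s * X⁻¹ = Y⁻¹ * s := by
      rw [eq_inv_mul_iff_mul_eq, ← mul_assoc, ← hsX, mul_inv_cancel_right]
    exact_mod_cast congrArg (fun u : Rˣ => (u : R)) h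
  have hcinv : (X : R) * (Y⁻¹ : Rˣ) * (X⁻¹ : Rˣ) = ε⁻¹ • ((Y⁻¹ : Rˣ) : R) := by
    have h : ((X : R) * (Y⁻¹ : Rˣ) * (X⁻¹ : Rˣ)) * (ε • (Y : R)) = 1 := by
      rw [← hc]
      simp only [mul_assoc]
      simp
    have h' := congrArg (fun z : R => z * (ε⁻¹ • ((Y⁻¹ : Rˣ) : R))) h
    simp only [one_mul] at h'
    rw [mul_assoc _ (ε • (Y : R)), smul_mul_smul_comm, mul_inv_cancel₀ hε, Units.mul_inv, one_smul, mul_one] at h'
    exact h'
  have hcomm : (1 - ε • (Y : R)) * (X * (Y⁻¹ : Rˣ)) = X * (Y⁻¹ : Rˣ) * (1 - (Y : R)) := by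
    rw [sub_mul, mul_sub, one_mul, mul_one, mul_assoc (X : R) _ (Y : R), Units.inv_mul, mul_one,
      smul_mul_assoc, ← mul_assoc, ← smul_mul_assoc, ← hXY, mul_assoc, Units.mul_inv, mul_one]
  have key : (X : R) * ((1 - (Y : R)) * s) * (X⁻¹ : Rˣ) = X * ((Y : R) - (X⁻¹ : Rˣ)) * (X⁻¹ : Rˣ) := by
    rw [hE]
  have lhs : (X : R) * ((1 - (Y : R)) * s) * (X⁻¹ : Rˣ) = (X : R) - ε⁻¹ • ((Y⁻¹ : Rˣ) : R) := by
    calc (X : R) * ((1 - (Y : R)) * s) * (X⁻¹ : Rˣ)
        = (X * (1 - (Y : R))) * (s * (X⁻¹ : Rˣ)) := by simp only [mul_assoc]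
      _ = (X * (1 - (Y : R)) * (X⁻¹ : Rˣ)) * (X * (Y⁻¹ : Rˣ)) * s := by
          rw [hsX2]; simp only [mul_assoc, Units.inv_mul_cancel_left]
      _ = (1 - ε • (Y : R)) * (X * (Y⁻¹ : Rˣ)) * s := by
          rw [mul_sub, sub_mul, mul_one, Units.mul_inv, hc]
      _ = X * (Y⁻¹ : Rˣ) * ((1 - (Y : R)) * s) := by rw [hcomm]; simp only [mul_assoc]
      _ = (X : R) - ε⁻¹ • ((Y⁻¹ : Rˣ) : R) := by
          rw [hE, mul_sub, mul_assoc (X : R) _ (Y : R), Units.inv_mul, mul_one, hcinv]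
  have rhs : (X : R) * ((Y : R) - (X⁻¹ : Rˣ)) * (X⁻¹ : Rˣ) = ε • (Y : R) - (X⁻¹ : Rˣ) := by
    rw [mul_sub, sub_mul, hc, Units.mul_inv, one_mul]
  rw [lhs, rhs, sub_eq_sub_iff_add_eq_add] at key
  rw [key]

/-- The twisting scalar is a sign. -/
theorem quad_scalar [Nontrivial R] (X Y s : Rˣ) (ε : k) (hε : ε ≠ 0) (h2 : (s : R) * s + s + 1 = 0)
    (hXs : (X : R) * s * (X * s) + X * s + 1 = 0) (hsX : s * X = Y * s)
    (hXY : (X : R) * Y = ε • ((Y : R) * X)) : ε ^ 2 = 1 := by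
  by_contra hne
  have hε1 : ε ≠ 1 := fun h => hne (by rw [h, one_pow])
  have h := quad_identity X Y s ε hε h2 hXs hsX hXY
  have hc : (X : R) * Y * (X⁻¹ : Rˣ) = ε • (Y : R) := by
    rw [hXY, smul_mul_assoc, mul_assoc, Units.mul_inv, mul_one]
  have hcinv : (X : R) * (Y⁻¹ : Rˣ) * (X⁻¹ : Rˣ) = ε⁻¹ • ((Y⁻¹ : Rˣ) : R) := by
    have h : ((X : R) * (Y⁻¹ : Rˣ) * (X⁻¹ : Rˣ)) * (ε • (Y : R)) = 1 := by
      rw [← hc]
      simp only [mul_assoc]
      simp
    have h' := congrArg (fun z : R => z * (ε⁻¹ • ((Y⁻¹ : Rˣ) : R))) h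
    simp only [one_mul] at h'
    rw [mul_assoc _ (ε • (Y : R)), smul_mul_smul_comm, mul_inv_cancel₀ hε, Units.mul_inv, one_smul, mul_one] at h'
    exact h'
  have h' := congrArg (fun z : R => (X : R) * z * (X⁻¹ : Rˣ)) h
  simp only [mul_add, add_mul, mul_smul_comm, smul_mul_assoc, hc, hcinv, Units.mul_inv, one_mul,
    Units.mul_inv_cancel_right] at h'
  rw [h, smul_smul, smul_smul] at h'
  have h3 : (ε - ε * ε) • (Y : R) = (ε⁻¹ * ε⁻¹ - ε⁻¹) • ((Y⁻¹ : Rˣ) : R) := by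
    rw [sub_smul, sub_smul, sub_eq_sub_iff_add_eq_add, h']
    abel
  have ha : ε - ε * ε ≠ 0 := by
    intro h0
    have : ε * (1 - ε) = 0 := by linear_combination h0
    rcases mul_eq_zero.1 this with h | h
    · exact hε h
    · exact hε1 (sub_eq_zero.1 h).symm
  set c := (ε - ε * ε)⁻¹ * (ε⁻¹ * ε⁻¹ - ε⁻¹) with hcdef
  have hY2 : (Y : R) * Y = c • (1 : R) := by
    have := congrArg (fun z : R => (ε - ε * ε)⁻¹ • (z * (Y : R))) h3
    simp only [smul_mul_assoc, smul_smul, inv_mul_cancel₀ ha, one_smul, Units.inv_mul] at this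
    exact this
  have hconj : (ε * ε * c) • (1 : R) = c • (1 : R) := by
    have h1 : (X : R) * (Y * Y) * (X⁻¹ : Rˣ) = (ε • (Y : R)) * (ε • (Y : R)) := by
      rw [← hc]; simp only [mul_assoc, Units.inv_mul_cancel_left]
    rw [hY2, mul_smul_comm, smul_mul_assoc, mul_one, Units.mul_inv, smul_mul_smul_comm, hY2, smul_smul] at h1
    exact h1.symm
  have hc0 : c ≠ 0 := fun h0 => by
    rw [h0, zero_smul] at hY2
    have hu : IsUnit ((Y : R) * Y) := Y.isUnit.mul Y.isUnit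
    rw [hY2] at hu
    exact not_isUnit_zero hu
  have : (ε * ε * c - c) • (1 : R) = 0 := by rw [sub_smul, hconj, sub_self]
  rw [← Algebra.algebraMap_eq_smul_one, map_eq_zero] at this
  exact hne (mul_right_cancel₀ hc0 (by linear_combination this))

end

variable {R : Type*} [Ring R]

/-- The commuting case: a polynomial killing `X`. -/
theorem quad_poly (X Y : R) (hXY : Commute X Y)
    (h1 : X * X * Y + Y = X * Y * Y + X) (h2 : X * Y * Y + X = 1 + X * X * Y * Y) :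
    (X - 1) * (X - 1) * (X - 1) * (X * X + X + 1) = 0 := by
  have hcomm : ∀ a ∈ ({X, Y} : Set R), ∀ b ∈ ({X, Y} : Set R), a * b = b * a := by
    intro a ha b hb
    rcases ha with rfl | ha <;> rcases hb with rfl | hb
    · rfl
    · rw [Set.mem_singleton_iff.1 hb]; exact hXY.eq
    · rw [Set.mem_singleton_iff.1 ha]; exact hXY.eq.symm
    · rw [Set.mem_singleton_iff.1 ha, Set.mem_singleton_iff.1 hb]
  letI : CommRing (Subring.closure ({X, Y} : Set R)) := Subring.closureCommRingOfComm hcomm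
  set x : Subring.closure ({X, Y} : Set R) := ⟨X, Subring.subset_closure (Set.mem_insert _ _)⟩
  set y : Subring.closure ({X, Y} : Set R) := ⟨Y, Subring.subset_closure (Set.mem_insert_of_mem _ rfl)⟩
  have e1 : x * x * y + y = x * y * y + x := Subtype.ext h1
  have e2 : x * y * y + x = 1 + x * x * y * y := Subtype.ext h2
  have key : (x - 1) * (x - 1) * (x - 1) * (x * x + x + 1) = 0 := by
    linear_combination -((1 - x) * (x * ((x * x + 1) * y + (1 + x)))) * e1 -
      ((x * ((x * x + 1) * y + (1 + x))) - (x * x + 1) * (x * x + 1)) * e2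
  exact congrArg Subtype.val key

theorem pow_mul_of_nilpotent (M : R) (n j : ℕ) (h : M ^ (j + 2) = 0) :
    (1 + M) ^ n * M ^ j = M ^ j + n • M ^ (j + 1) := by
  induction n with
  | zero => simp
  | succ n ih =>
    rw [pow_succ' (1 + M), mul_assoc, ih, mul_add, add_mul, one_mul, add_mul, one_mul, ← pow_succ',
      mul_smul_comm, ← pow_succ', show j + 1 + 1 = j + 2 from rfl, h, smul_zero, add_zero, succ_nsmul]
    abel

/-- A unipotent element of invertible order is trivial. -/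
theorem unipotent_eq_one (W : R) (h3 : (W - 1) ^ 3 = 0) {n : ℕ} (hn : IsUnit (n : R)) (hW : W ^ n = 1) :
    W = 1 := by
  set M := W - 1 with hM
  have hW' : W = 1 + M := by rw [hM]; abel
  rw [hW'] at hW
  have key : ∀ j : ℕ, M ^ (j + 2) = 0 → M ^ (j + 1) = 0 := by
    intro j hj
    have h := pow_mul_of_nilpotent M n j hj
    rw [hW, one_mul, left_eq_add, nsmul_eq_mul] at h
    exact hn.mul_right_eq_zero.1 h
  have h1 := key 0 (key 1 h3)
  rw [pow_one] at h1
  rw [hW', h1, add_zero]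

end CfsgLib.S3Fpf
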