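import Cfsg.Agent.S3Fpf.Stab
import Cfsg.Agent.S3Fpf.Quad
import Mathlib.GroupTheory.FiniteAbelian.Duality
import Mathlib.RingTheory.RootsOfUnity.AlgebraicallyClosed
import Mathlib.GroupTheory.Solvable
import Mathlib.LinearAlgebra.Dimension.Finite
import Mathlib.Algebra.Module.LinearMap.End

/-!
A solvable group acted on fixed-point-freely by the symmetric group of degree three, represented
faithfully and compatibly without fixed vectors, is commutative.
-/

set_option autoImplicit false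
set_option linter.style.haveILetI false
set_option linter.unusedSectionVars false

namespace CfsgLib.S3Fpf

open scoped commutatorElement IsMulCommutative

universe u v w

/-- A compatible representation without fixed vectors. -/
structure Rep {H : Type u} [Group H] (T : Trio H) (k : Type v) [Field k] (V : Type w) [AddCommGroup V]
    [Module k V] where
  ρ : H →* Module.End k V
  s : Module.End k V
  t : Module.End k V
  s3 : s * s * s = 1
  t2 : t * t = 1
  ts : t * s = s * s * t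
  cs : ∀ h, s * ρ h = ρ (T.σ h) * s
  ct : ∀ h, t * ρ h = ρ (T.τ h) * t
  zero : (1 + s + s * s) * (1 + t) = 0
  inj : Function.Injective ρ
  two : (2 : k) ≠ 0
  three : (3 : k) ≠ 0

namespace Rep

variable {H : Type u} [Group H] [Finite H] {T : Trio H} {k : Type v} [Field k] {V : Type w} [AddCommGroup V]
  [Module k V] (R : Rep T k V)

theorem ρ_mul (g h : H) (x : V) : R.ρ (g * h) x = R.ρ g (R.ρ h x) := by rw [map_mul]; rfl

theorem ρ_inv_self (g : H) (x : V) : R.ρ g⁻¹ (R.ρ g x) = x := by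
  rw [← R.ρ_mul, inv_mul_cancel, map_one]; rfl

theorem cs_apply (h : H) (x : V) : R.s (R.ρ h x) = R.ρ (T.σ h) (R.s x) :=
  LinearMap.congr_fun (R.cs h) x

theorem ct_apply (h : H) (x : V) : R.t (R.ρ h x) = R.ρ (T.τ h) (R.t x) :=
  LinearMap.congr_fun (R.ct h) x

theorem s3_apply (x : V) : R.s (R.s (R.s x)) = x := LinearMap.congr_fun R.s3 x

theorem t2_apply (x : V) : R.t (R.t x) = x := LinearMap.congr_fun R.t2 x

theorem ts_apply (x : V) : R.t (R.s x) = R.s (R.s (R.t x)) := LinearMap.congr_fun R.ts x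

theorem zero_apply (x : V) : x + R.s x + R.s (R.s x) + (R.t x + R.s (R.t x) + R.s (R.s (R.t x))) = 0 := by
  have h := LinearMap.congr_fun R.zero x
  simp only [Module.End.mul_apply, LinearMap.add_apply, Module.End.one_apply, map_add, LinearMap.zero_apply] at h
  rw [← h]

variable (D : Subgroup H)

/-- The weight condition. -/
def Wt (f : H → kˣ) (x : V) : Prop := ∀ u ∈ D, R.ρ u x = ((f u : kˣ) : k) • x

variable {D}

theorem Wt.add {f : H → kˣ} {x y : V} (hx : R.Wt D f x) (hy : R.Wt D f y) : R.Wt D f (x + y) :=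
  fun u hu => by rw [map_add, hx u hu, hy u hu, smul_add]

theorem Wt.smul {f : H → kˣ} {x : V} (c : k) (hx : R.Wt D f x) : R.Wt D f (c • x) :=
  fun u hu => by rw [map_smul, hx u hu, smul_comm]

theorem Wt.congr {f g : H → kˣ} {x : V} (hx : R.Wt D f x) (h : ∀ u ∈ D, f u = g u) : R.Wt D g x :=
  fun u hu => by rw [hx u hu, h u hu]

theorem wt_ρ [D.Normal] {f : H → kˣ} {x : V} (hx : R.Wt D f x) (h : H) :
    R.Wt D (fun u => f (h⁻¹ * u * h)) (R.ρ h x) := fun u hu => by
  rw [← R.ρ_mul, show u * h = h * (h⁻¹ * u * h) by group, R.ρ_mul,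
    hx _ ((inferInstance : D.Normal).conj_mem' u hu h), map_smul]

theorem wt_s (hD : T.Stable D) {f : H → kˣ} {x : V} (hx : R.Wt D f x) :
    R.Wt D (fun u => f (T.σ (T.σ u))) (R.s x) := fun u hu => by
  have h := R.cs_apply (T.σ (T.σ u)) x
  rw [T.σ3, hx _ (hD.1 _ (hD.1 _ hu)), map_smul] at h
  exact h.symm

theorem wt_t (hD : T.Stable D) {f : H → kˣ} {x : V} (hx : R.Wt D f x) :
    R.Wt D (fun u => f (T.τ u)) (R.t x) := fun u hu => by
  have h := R.ct_apply (T.τ u) x
  rw [T.τ2, hx _ (hD.2 _ hu), map_smul] at h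
  exact h.symm

variable (D) in
/-- The projection onto a weight space. -/
noncomputable def proj [Fintype D] (f : H → kˣ) : Module.End k V :=
  (Fintype.card D : k)⁻¹ • ∑ u : D, (((f u)⁻¹ : kˣ) : k) • R.ρ u

theorem proj_apply [Fintype D] (f : H → kˣ) (x : V) :
    R.proj D f x = (Fintype.card D : k)⁻¹ • ∑ u : D, (((f u)⁻¹ : kˣ) : k) • R.ρ u x := by
  simp [proj, LinearMap.sum_apply]

theorem proj_self [Fintype D] (hc : (Fintype.card D : k) ≠ 0) {f : H → kˣ} {x : V} (hx : R.Wt D f x) :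
    R.proj D f x = x := by
  rw [proj_apply, Finset.sum_congr rfl fun u _ => by
    rw [hx u u.2, smul_smul, ← Units.val_mul, inv_mul_cancel, Units.val_one, one_smul],
    Finset.sum_const, Finset.card_univ, ← Nat.cast_smul_eq_nsmul k, smul_smul, inv_mul_cancel₀ hc, one_smul]

theorem proj_other [Fintype D] {f g : H → kˣ} (hf : MulOn D f) (hg : MulOn D g) {x : V}
    (hx : R.Wt D g x) (hne : ∃ u ∈ D, f u ≠ g u) : R.proj D f x = 0 := by
  obtain ⟨u₀, hu₀, hne⟩ := hne
  rw [proj_apply, Finset.sum_congr rfl fun u _ => by rw [hx u u.2, smul_smul, ← Units.val_mul],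
    ← Finset.sum_smul]
  have hz : ∑ u : D, ((((f u)⁻¹ * g u : kˣ)) : k) = 0 := by
    have hshift : ((((f u₀)⁻¹ * g u₀ : kˣ)) : k) * ∑ u : D, ((((f u)⁻¹ * g u : kˣ)) : k) =
        ∑ u : D, ((((f u)⁻¹ * g u : kˣ)) : k) := by
      rw [Finset.mul_sum]
      refine Fintype.sum_equiv (Equiv.mulLeft (⟨u₀, hu₀⟩ : D)) _ _ fun u => ?_
      rw [← Units.val_mul]
      congr 1
      show _ = (f (u₀ * u))⁻¹ * g (u₀ * u)
      rw [hf _ hu₀ _ u.2, hg _ hu₀ _ u.2, mul_inv, mul_mul_mul_comm]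
    by_contra hs
    have h1 := mul_eq_right₀ hs |>.1 hshift
    have h2 : (f u₀)⁻¹ * g u₀ = 1 := Units.ext h1
    exact hne (inv_mul_eq_one.1 h2)
  rw [hz, zero_smul, smul_zero]

theorem ext_weights [IsAlgClosed k] (hDc : ∀ a ∈ D, ∀ b ∈ D, a * b = b * a) (hc : (Nat.card D : k) ≠ 0)
    {A B : Module.End k V} (h : ∀ f : H → kˣ, MulOn D f → ∀ x, R.Wt D f x → A x = B x) : A = B := by
  classical
  haveI : IsMulCommutative D := ⟨⟨fun a b => Subtype.ext (hDc a a.2 b b.2)⟩⟩
  haveI : Fintype D := Fintype.ofFinite D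
  haveI : NeZero (Monoid.exponent D : k) := ⟨fun h0 => hc (by
    obtain ⟨q, hq⟩ := (Group.exponent_dvd_nat_card : Monoid.exponent D ∣ Nat.card D)
    rw [hq, Nat.cast_mul, h0, zero_mul])⟩
  haveI : Fintype (D →* kˣ) := Fintype.ofFinite _
  rw [Nat.card_eq_fintype_card] at hc
  let F : (D →* kˣ) → H → kˣ := fun χ u => if hu : u ∈ D then χ ⟨u, hu⟩ else 1
  have hF : ∀ χ (u : D), F χ (u : H) = χ u := fun χ u => by simp only [F, dif_pos u.2, Subtype.coe_eta]
  have hFm : ∀ χ, MulOn D (F χ) := fun χ a ha b hb => by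
    simp only [F, dif_pos ha, dif_pos hb, dif_pos (D.mul_mem ha hb)]
    rw [← map_mul]; rfl
  have hw : ∀ χ x, R.Wt D (F χ) (R.proj D (F χ) x) := by
    intro χ x w hw
    rw [proj_apply, map_smul, map_sum, smul_comm]
    congr 1
    rw [Finset.smul_sum]
    refine Fintype.sum_equiv (Equiv.mulLeft (⟨w, hw⟩ : D)) _ _ fun u => ?_
    rw [map_smul, ← R.ρ_mul, smul_smul, ← Units.val_mul, hF, hF]
    show _ = (((F χ w) * (χ (⟨w, hw⟩ * u))⁻¹ : kˣ) : k) • R.ρ (w * u) x
    rw [show F χ w = χ ⟨w, hw⟩ from hF χ ⟨w, hw⟩, map_mul χ, mul_inv, mul_inv_cancel_left]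
  have hsum : ∀ x, ∑ χ, R.proj D (F χ) x = x := by
    intro x
    simp only [proj_apply, hF, ← Finset.smul_sum]
    rw [Finset.sum_comm, Finset.sum_congr rfl fun u _ => (Finset.sum_smul).symm,
      Finset.sum_eq_single (1 : D)]
    · simp only [map_one, inv_one, Units.val_one, Finset.sum_const, Finset.card_univ, OneMemClass.coe_one,
        Module.End.one_apply, nsmul_eq_mul, mul_one, smul_smul]
      rw [show Fintype.card (D →* kˣ) = Fintype.card D by
        rw [← Nat.card_eq_fintype_card, CommGroup.card_monoidHom_of_hasEnoughRootsOfUnity, Nat.card_eq_fintype_card],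
        inv_mul_cancel₀ hc, one_smul]
    · intro u _ hu
      obtain ⟨φ, hφ⟩ := CommGroup.exists_apply_ne_one_of_hasEnoughRootsOfUnity D k hu
      have hshift : (((φ u)⁻¹ : kˣ) : k) * ∑ χ : D →* kˣ, (((χ u)⁻¹ : kˣ) : k) = ∑ χ : D →* kˣ, (((χ u)⁻¹ : kˣ) : k) := by
        rw [Finset.mul_sum]
        refine Fintype.sum_equiv (Equiv.mulLeft φ) _ _ fun χ => ?_
        rw [← Units.val_mul, ← mul_inv]; rfl
      by_contra hs
      have hs' : ∑ χ : D →* kˣ, (((χ u)⁻¹ : kˣ) : k) ≠ 0 := fun h0 => hs (by rw [h0, zero_smul])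
      have h2 : (φ u)⁻¹ = 1 := Units.ext (mul_eq_right₀ hs' |>.1 hshift)
      exact hφ (inv_eq_one.1 h2)
    · simp
  refine LinearMap.ext fun x => ?_
  rw [← hsum x, map_sum, map_sum]
  exact Finset.sum_congr rfl fun χ _ => h _ (hFm χ) _ (hw χ x)

theorem ρ_injective_apply (g : H) {x : V} (hx : x ≠ 0) : R.ρ g x ≠ 0 := fun h =>
  hx (by rw [← R.ρ_inv_self g x, h, map_zero])

/-- A weight is fixed by some nontrivial element. -/
theorem weight_cases (hD : T.Stable D) (hc : (Nat.card D : k) ≠ 0) {f : H → kˣ} (hf : MulOn D f) {x : V}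
    (hx : R.Wt D f x) (hx0 : x ≠ 0) :
    (∀ u ∈ D, f (T.σ u) = f u) ∨ (∀ u ∈ D, f (T.τ u) = f u) ∨
      (∀ u ∈ D, f (T.σ (T.τ u)) = f u) ∨ (∀ u ∈ D, f (T.σ (T.σ (T.τ u))) = f u) := by
  classical
  haveI : Fintype D := Fintype.ofFinite D
  rw [Nat.card_eq_fintype_card] at hc
  by_contra hcon
  simp only [not_or, not_forall, exists_prop] at hcon
  obtain ⟨hσ, hτ, hστ, hσστ⟩ := hcon
  refine hx0 ?_
  have hmul : ∀ φ : H → H, (∀ u ∈ D, φ u ∈ D) → (∀ a b, φ (a * b) = φ a * φ b) → MulOn D (fun u => f (φ u)) :=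
    fun φ hφ hm a ha b hb => by simp only [hm, hf _ (hφ a ha) _ (hφ b hb)]
  have p1 := R.proj_other hf (hmul _ (fun u hu => hD.1 _ (hD.1 _ hu)) (by simp)) (R.wt_s hD hx) (by
    obtain ⟨u, hu, hne⟩ := hσ
    refine ⟨T.σ u, hD.1 _ hu, fun h => hne ?_⟩
    rwa [T.σ3] at h)
  have p2 := R.proj_other hf (hmul (fun u => T.σ u) (fun u hu => hD.1 _ hu) (by simp))
    ((R.wt_s hD (R.wt_s hD hx)).congr R (fun u _ => by show f (T.σ (T.σ (T.σ (T.σ u)))) = f (T.σ u); rw [T.σ3]))
    (by obtain ⟨u, hu, hne⟩ := hσ; exact ⟨u, hu, fun h => hne h.symm⟩)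
  have p3 := R.proj_other hf (hmul _ hD.2 (by simp)) (R.wt_t hD hx)
    (by obtain ⟨u, hu, hne⟩ := hτ; exact ⟨u, hu, fun h => hne h.symm⟩)
  have p4 := R.proj_other hf (hmul (fun u => T.σ (T.τ u)) (fun u hu => hD.1 _ (hD.2 _ hu)) (by simp))
    ((R.wt_s hD (R.wt_t hD hx)).congr R (fun u _ => by show f (T.τ (T.σ (T.σ u))) = f (T.σ (T.τ u)); rw [T.τσσ]))
    (by obtain ⟨u, hu, hne⟩ := hστ; exact ⟨u, hu, fun h => hne h.symm⟩)
  have p5 := R.proj_other hf (hmul (fun u => T.σ (T.σ (T.τ u))) (fun u hu => hD.1 _ (hD.1 _ (hD.2 _ hu))) (by simp))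
    ((R.wt_s hD (R.wt_s hD (R.wt_t hD hx))).congr R (fun u _ => by
      show f (T.τ (T.σ (T.σ (T.σ (T.σ u))))) = f (T.σ (T.σ (T.τ u))); rw [T.σ3, T.τσ]))
    (by obtain ⟨u, hu, hne⟩ := hσστ; exact ⟨u, hu, fun h => hne h.symm⟩)
  have h := congrArg (R.proj D f) (R.zero_apply x)
  simp only [map_add, map_zero, R.proj_self hc hx, p1, p2, p3, p4, p5, add_zero] at h
  exact h

variable [D.Normal]

/-- Every weight is fixed by `σ`. -/
theorem weight_fixed (hD : T.Stable D) (hDc : ∀ a ∈ D, ∀ b ∈ D, a * b = b * a)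
    (hDe : D = commutator H) (hc : (Nat.card D : k) ≠ 0) {f : H → kˣ} (hf : MulOn D f) {x : V}
    (hx : R.Wt D f x) (hx0 : x ≠ 0) : ∀ u ∈ D, f (T.σ u) = f u := by
  classical
  haveI : Fintype D := Fintype.ofFinite D
  have hc' : (Fintype.card D : k) ≠ 0 := by rwa [Nat.card_eq_fintype_card] at hc
  have hDm : ∀ g h : H, ⁅g, h⁆ ∈ D := fun g h => by
    rw [hDe]; exact Subgroup.commutator_mem_commutator (Subgroup.mem_top g) (Subgroup.mem_top h)
  -- the main case
  have main : ∀ (f : H → kˣ) (x : V), MulOn D f → R.Wt D f x → x ≠ 0 → (∀ u ∈ D, f (T.τ u) = f u) →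
      ∀ u ∈ D, f (T.σ u) = f u := by
    intro f x hf hx hx0 hτ
    by_contra hσ
    simp only [not_forall, exists_prop] at hσ
    have hw : ∀ h : H, (∀ u ∈ D, f (h * T.σ u * h⁻¹) = f (h * u * h⁻¹)) ∨
        (∀ u ∈ D, f (h * T.τ u * h⁻¹) = f (h * u * h⁻¹)) ∨
        (∀ u ∈ D, f (h * T.σ (T.τ u) * h⁻¹) = f (h * u * h⁻¹)) ∨
        (∀ u ∈ D, f (h * T.σ (T.σ (T.τ u)) * h⁻¹) = f (h * u * h⁻¹)) := fun h => by
      have hx' := R.wt_ρ hx h⁻¹
      simp only [inv_inv] at hx'
      refine R.weight_cases hD hc (fun a ha b hb => ?_) hx' (R.ρ_injective_apply _ hx0)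
      show f (h * (a * b) * h⁻¹) = f (h * a * h⁻¹) * f (h * b * h⁻¹)
      rw [← hf _ ((inferInstance : D.Normal).conj_mem a ha h) _ ((inferInstance : D.Normal).conj_mem b hb h)]
      group
    have hstab := stabF_eq_top hf hDc hDm hD hτ hσ hw
    -- `t` is `-1` on the weight space
    have hneg : ∀ y : V, R.Wt D f y → R.t y = -y := by
      intro y hy
      have hty : R.Wt D f (R.t y) := (R.wt_t hD hy).congr R hτ
      set z := y + R.t y
      have hz : R.Wt D f z := Wt.add R hy hty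
      have htz : R.t z = z := by simp only [z, map_add, R.t2_apply]; abel
      have hmulσ : ∀ (φ : H → H), (∀ u ∈ D, φ u ∈ D) → (∀ a b, φ (a * b) = φ a * φ b) → MulOn D (fun u => f (φ u)) :=
        fun φ hφ hm a ha b hb => by simp only [hm, hf _ (hφ a ha) _ (hφ b hb)]
      obtain ⟨u, hu, hne⟩ := hσ
      have p1 := R.proj_other hf (hmulσ _ (fun u hu => hD.1 _ (hD.1 _ hu)) (by simp)) (R.wt_s hD hz)
        ⟨T.σ u, hD.1 _ hu, fun h => hne (by rwa [T.σ3] at h)⟩
      have p2 := R.proj_other hf (hmulσ (fun u => T.σ u) (fun u hu => hD.1 _ hu) (by simp))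
        ((R.wt_s hD (R.wt_s hD hz)).congr R (fun w _ => by show f (T.σ (T.σ (T.σ (T.σ w)))) = f (T.σ w); rw [T.σ3]))
        ⟨u, hu, fun h => hne h.symm⟩
      have h := congrArg (R.proj D f) (R.zero_apply z)
      simp only [htz, map_add, map_zero, R.proj_self hc' hz, p1, p2, add_zero] at h
      rw [← two_smul k, smul_eq_zero] at h
      exact (neg_eq_of_add_eq_zero_right (h.resolve_left R.two)).symm
    have hWh : ∀ (y : V), R.Wt D f y → ∀ h, R.Wt D f (R.ρ h y) := fun y hy h =>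
      (R.wt_ρ hy h).congr R fun u hu => by
        have := hstab h⁻¹ u hu
        rwa [inv_inv] at this
    have hρτ : ∀ (y : V), R.Wt D f y → ∀ h, R.ρ (T.τ h) y = R.ρ h y := by
      intro y hy h
      have h1 := R.ct_apply h y
      rw [hneg _ (hWh y hy h), hneg y hy, map_neg, neg_inj] at h1
      exact h1.symm
    have hcomm : ∀ g h : H, f ⁅T.τ g, h⁆ = f ⁅g, h⁆ := by
      intro g h
      have e : R.ρ ⁅T.τ g, h⁆ x = R.ρ ⁅g, h⁆ x := by
        simp only [commutatorElement_def, R.ρ_mul]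
        rw [← map_inv T.τ, hρτ _ (hWh x hx h⁻¹), hρτ _ (hWh _ (hWh _ (hWh x hx h⁻¹) g⁻¹) h)]
      rw [hx _ (hDm _ _), hx _ (hDm _ _)] at e
      exact Units.ext (smul_left_injective k hx0 e)
    have h1 := commutator_eq_one hf hDc hDm hD hτ hstab hcomm
    have htriv : ∀ u ∈ D, f u = 1 := by
      intro u hu
      have hu' : u ∈ commutator H := hDe ▸ hu
      rw [commutator_eq_closure] at hu'
      suffices u ∈ D ∧ f u = 1 from this.2
      clear hu
      induction hu' using Subgroup.closure_induction with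
      | mem z hz => obtain ⟨g, h, rfl⟩ := hz; exact ⟨hDm g h, h1 g h⟩
      | one => exact ⟨D.one_mem, hf.one⟩
      | mul a b _ _ iha ihb =>
        exact ⟨D.mul_mem iha.1 ihb.1, by rw [hf _ iha.1 _ ihb.1, iha.2, ihb.2, one_mul]⟩
      | inv a _ iha =>
        exact ⟨D.inv_mem iha.1, by rw [hf.inv iha.1, iha.2, inv_one]⟩
    obtain ⟨u, hu, hne⟩ := hσ
    exact hne (by rw [htriv u hu, htriv _ (hD.1 u hu)])
  rcases R.weight_cases hD hc hf hx hx0 with h | h | h | h
  · exact h
  · exact main f x hf hx hx0 h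
  · have hm := main (fun u => f (T.σ (T.σ u))) (R.s x)
      (fun a ha b hb => by simp only [map_mul, hf _ (hD.1 _ (hD.1 _ ha)) _ (hD.1 _ (hD.1 _ hb))])
      (R.wt_s hD hx) (fun h0 => hx0 (by rw [← R.s3_apply x, h0, map_zero, map_zero]))
      (fun u hu => by
        have := h (T.σ (T.σ u)) (hD.1 _ (hD.1 _ hu))
        rw [T.στσσ] at this
        exact this)
    intro u hu
    have := hm (T.σ u) (hD.1 _ hu)
    simp only [T.σ3] at this
    exact this
  · have hm := main (fun u => f (T.σ u)) (R.s (R.s x))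
      (fun a ha b hb => by simp only [map_mul, hf _ (hD.1 _ ha) _ (hD.1 _ hb)])
      ((R.wt_s hD (R.wt_s hD hx)).congr R (fun u _ => by show f (T.σ (T.σ (T.σ (T.σ u)))) = f (T.σ u); rw [T.σ3]))
      (fun h0 => hx0 (by rw [← R.s3_apply x, h0, map_zero]))
      (fun u hu => by
        have := h (T.σ u) (hD.1 _ hu)
        rw [T.τσ, T.σ3] at this
        exact this)
    intro u hu
    have := hm (T.σ (T.σ u)) (hD.1 _ (hD.1 _ hu))
    simp only [T.σ3] at this
    exact this

/-- A character fixed by both automorphisms is trivial. -/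
theorem trivial_of_fixed (hD : T.Stable D) (hDc : ∀ a ∈ D, ∀ b ∈ D, a * b = b * a) {f : H → kˣ}
    (hf : MulOn D f) (hσ : ∀ u ∈ D, f (T.σ u) = f u) (hτ : ∀ u ∈ D, f (T.τ u) = f u) : ∀ u ∈ D, f u = 1 := by
  intro u hu
  set v := u * T.σ u * T.σ (T.σ u) with hv
  have hvD : v ∈ D := D.mul_mem (D.mul_mem hu (hD.1 _ hu)) (hD.1 _ (hD.1 _ hu))
  have hvσ : T.σ v = v := by
    simp only [hv, map_mul, T.σ3]
    exact (hDc _ (D.mul_mem (hD.1 _ hu) (hD.1 _ (hD.1 _ hu))) _ hu).trans (mul_assoc _ _ _).symm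
  have hp : v * T.τ v = 1 := by
    apply T.fpf
    · rw [map_mul, hvσ, ← T.τσσ, hvσ, hvσ]
    · rw [map_mul, T.τ2]; exact hDc _ (hD.2 _ hvD) _ hvD
  have h := congrArg f hp
  rw [hf _ hvD _ (hD.2 _ hvD), hτ v hvD, hv, hf _ (D.mul_mem hu (hD.1 _ hu)) _ (hD.1 _ (hD.1 _ hu)),
    hf _ hu _ (hD.1 _ hu), hσ _ (hD.1 _ hu), hσ u hu, hf.one, ← pow_three', ← sq, ← pow_mul] at h
  exact hf.eq_one_of_pow T T.cop hu h

/-- On a nontrivial weight space the elements `h⁻¹ σ h` act trivially. -/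
theorem commutator_σ_trivial (hD : T.Stable D) (hDc : ∀ a ∈ D, ∀ b ∈ D, a * b = b * a)
    (hDm : ∀ g h : H, ⁅g, h⁆ ∈ D) (hc : (Nat.card D : k) ≠ 0)
    (hfix : ∀ f : H → kˣ, MulOn D f → ∀ x, R.Wt D f x → x ≠ 0 → ∀ u ∈ D, f (T.σ u) = f u)
    (hcen : ∀ g : H, (∀ d ∈ D, g * d = d * g) → ((orderOf g : ℕ) : k) ≠ 0)
    (hσD : ∀ u ∈ D, T.σ u = u) {f : H → kˣ} (hf : MulOn D f) (hnt : ∃ u ∈ D, f u ≠ 1) (h : H) {x : V}
    (hx : R.Wt D f x) : R.ρ (h⁻¹ * T.σ h) x = x := by
  classical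
  haveI : Fintype D := Fintype.ofFinite D
  have hc' : (Fintype.card D : k) ≠ 0 := by rwa [Nat.card_eq_fintype_card] at hc
  rcases eq_or_ne x 0 with rfl | hx0
  · rw [map_zero]
  let C := Subgroup.centralizer (D : Set H)
  have hXC : h⁻¹ * T.σ h ∈ C := by
    rw [Subgroup.mem_centralizer_iff]
    intro u hu
    have h1 := hσD _ ((inferInstance : D.Normal).conj_mem u hu h)
    rw [map_mul, map_mul, map_inv, hσD u hu] at h1
    calc u * (h⁻¹ * T.σ h) = h⁻¹ * (h * u * h⁻¹) * T.σ h := by group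
      _ = h⁻¹ * (T.σ h * u * (T.σ h)⁻¹) * T.σ h := by rw [h1]
      _ = h⁻¹ * T.σ h * u := by group
  have hCσ : ∀ g ∈ C, T.σ g ∈ C := fun g hg => Subgroup.mem_centralizer_iff.2 fun u hu => by
    rw [← hσD u hu, ← map_mul, ← map_mul, Subgroup.mem_centralizer_iff.1 hg u hu]
  let W : Submodule k V :=
    { carrier := {y | R.Wt D f y}
      zero_mem' := fun u _ => by rw [map_zero, smul_zero]
      add_mem' := fun ha hb => Wt.add R ha hb
      smul_mem' := fun c _ ha => Wt.smul R c ha }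
  have hWC : ∀ g ∈ C, ∀ y ∈ W, R.ρ g y ∈ W := fun g hg y hy u hu => by
    rw [← R.ρ_mul, Subgroup.mem_centralizer_iff.1 hg u hu, R.ρ_mul, hy u hu, map_smul]
  have hWs : ∀ y ∈ W, R.s y ∈ W := fun y hy =>
    (R.wt_s hD hy).congr R fun u hu => by rw [hσD u hu, hσD u hu]
  let φ : C →* Module.End k W :=
    { toFun := fun g => (R.ρ g).restrict (hWC g g.2)
      map_one' := LinearMap.ext fun y => Subtype.ext (show R.ρ 1 (y : V) = y by rw [map_one]; rfl)
      map_mul' := fun a b => LinearMap.ext fun y => Subtype.ext (R.ρ_mul a b y) }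
  let sW : Module.End k W := R.s.restrict hWs
  have sW3 : sW * (sW * sW) = 1 := LinearMap.ext fun y => Subtype.ext (R.s3_apply y)
  have sW3' : (sW * sW) * sW = 1 := LinearMap.ext fun y => Subtype.ext (R.s3_apply y)
  let su : (Module.End k W)ˣ := ⟨sW, sW * sW, sW3, sW3'⟩
  let e : C →* (Module.End k W)ˣ := φ.toHomUnits
  have he : ∀ (g : C) (y : W), ((((e g : (Module.End k W)ˣ) : Module.End k W) y : W) : V) = R.ρ (g : H) y :=
    fun g y => rfl
  set X : C := ⟨h⁻¹ * T.σ h, hXC⟩ with hX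
  set Y : C := ⟨T.σ (h⁻¹ * T.σ h), hCσ _ hXC⟩ with hY
  set Z : C := ⟨T.σ (T.σ (h⁻¹ * T.σ h)), hCσ _ (hCσ _ hXC)⟩ with hZ
  have hZXY : Z = (X * Y)⁻¹ := by
    refine Subtype.ext ?_
    show T.σ (T.σ (h⁻¹ * T.σ h)) = (h⁻¹ * T.σ h * T.σ (h⁻¹ * T.σ h))⁻¹
    simp only [map_mul, map_inv, T.σ3]
    group
  -- the quadratic equation on nontrivial weight spaces
  have hquad : ∀ (g : H → kˣ), MulOn D g → (∃ u ∈ D, g u ≠ 1) → ∀ y, R.Wt D g y → R.s (R.s y) + R.s y + y = 0 := by
    intro g hg hgnt y hy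
    rcases eq_or_ne y 0 with rfl | hy0
    · simp
    have hgσ := hfix g hg y hy hy0
    have hws : ∀ z, R.Wt D g z → R.Wt D g (R.s z) := fun z hz =>
      (R.wt_s hD hz).congr R fun u hu => by rw [hσD u hu, hσD u hu]
    set z := y + R.s y + R.s (R.s y) with hz
    have hzW : R.Wt D g z := Wt.add R (Wt.add R hy (hws y hy)) (hws _ (hws y hy))
    have hsz : R.s z = z := by simp only [hz, map_add, R.s3_apply]; abel
    have hstz : R.s (R.t z) = R.t z := by
      have h1 := R.ts_apply (R.s z)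
      rw [hsz, hsz] at h1
      have h2 := congrArg R.s h1
      rw [R.s3_apply] at h2
      exact h2
    have hgτ : ∃ u ∈ D, g u ≠ g (T.τ u) := by
      by_contra hcon
      simp only [not_exists, not_and, not_not] at hcon
      obtain ⟨u, hu, hne⟩ := hgnt
      exact hne (trivial_of_fixed hD hDc hg hgσ (fun u hu => (hcon u hu).symm) u hu)
    have p3 := R.proj_other hg (fun a ha b hb => by simp only [map_mul, hg _ (hD.2 a ha) _ (hD.2 b hb)])
      (R.wt_t hD hzW) hgτ
    have h1 := congrArg (R.proj D g) (R.zero_apply z)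
    simp only [hsz, hstz, map_add, map_zero, R.proj_self hc' hzW, p3, add_zero] at h1
    have h3 : (3 : k) • z = 0 := by
      rw [show (3 : k) = 1 + 1 + 1 by norm_num, add_smul, add_smul, one_smul]; exact h1
    have hz0 := (smul_eq_zero.1 h3).resolve_left R.three
    rw [← hz0, hz]; abel
  have h2 : (su : Module.End k W) * su + su + 1 = 0 :=
    LinearMap.ext fun y => Subtype.ext (hquad f hf hnt y y.2)
  have hXs : ((e X : (Module.End k W)ˣ) : Module.End k W) * su * ((e X : (Module.End k W)ˣ) * su) +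
      (e X : (Module.End k W)ˣ) * su + 1 = 0 := by
    refine LinearMap.ext fun y => Subtype.ext ?_
    show R.ρ (h⁻¹ * T.σ h) (R.s (R.ρ (h⁻¹ * T.σ h) (R.s (y : V)))) + R.ρ (h⁻¹ * T.σ h) (R.s (y : V)) + (y : V) = 0
    have hg := R.wt_ρ (show R.Wt D f (y : V) from y.2) h
    have h0 := hquad _ (fun a ha b hb => by
        show f (h⁻¹ * (a * b) * h) = f (h⁻¹ * a * h) * f (h⁻¹ * b * h)
        rw [← hf _ ((inferInstance : D.Normal).conj_mem' a ha h) _ ((inferInstance : D.Normal).conj_mem' b hb h)]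
        group)
      (by
        obtain ⟨u, hu, hne⟩ := hnt
        refine ⟨h * u * h⁻¹, (inferInstance : D.Normal).conj_mem u hu h, ?_⟩
        show f (h⁻¹ * (h * u * h⁻¹) * h) ≠ 1
        rwa [show h⁻¹ * (h * u * h⁻¹) * h = u by group]) _ hg
    have h1 := congrArg (R.ρ h⁻¹) h0
    simp only [map_add, map_zero, R.cs_apply, R.ρ_inv_self, ← R.ρ_mul] at h1
    rw [← h1, R.cs_apply, ← R.ρ_mul, map_mul T.σ, map_inv T.σ,
      show h⁻¹ * T.σ h * ((T.σ h)⁻¹ * T.σ (T.σ h)) = h⁻¹ * T.σ (T.σ h) by group]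
  have hsX : su * e X = e Y * su :=
    Units.ext (LinearMap.ext fun y => Subtype.ext (R.cs_apply (h⁻¹ * T.σ h) (y : V)))
  have hsY : su * e Y = e Z * su :=
    Units.ext (LinearMap.ext fun y => Subtype.ext (R.cs_apply (T.σ (h⁻¹ * T.σ h)) (y : V)))
  set c := ⁅(X : H), (Y : H)⁆ with hcdef
  set ε : k := ((f c : kˣ) : k) with hε
  have hXY : ((e X : (Module.End k W)ˣ) : Module.End k W) * (e Y : (Module.End k W)ˣ) =
      ε • (((e Y : (Module.End k W)ˣ) : Module.End k W) * (e X : (Module.End k W)ˣ)) := by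
    refine LinearMap.ext fun y => Subtype.ext ?_
    show R.ρ (X : H) (R.ρ (Y : H) (y : V)) = ε • R.ρ (Y : H) (R.ρ (X : H) (y : V))
    rw [← (hWC _ Y.2 _ (hWC _ X.2 _ y.2)) c (hDm _ _)]
    simp only [← R.ρ_mul, hcdef, commutatorElement_def]
    group
  haveI : Nontrivial (Module.End k W) := by
    refine ⟨⟨1, 0, fun h0 => hx0 ?_⟩⟩
    exact congrArg Subtype.val (LinearMap.congr_fun h0 (⟨x, hx⟩ : W))
  have hε2 := quad_scalar (e X) (e Y) su ε (Units.ne_zero _) h2 hXs hsX hXY
  have hε1 : ε = 1 := by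
    have h' : f c ^ 2 = 1 := Units.ext (by rw [Units.val_pow_eq_pow_val, Units.val_one]; exact hε2)
    rw [hε, hf.eq_one_of_pow T T.cop2 (hDm _ _) h', Units.val_one]
  have hid := quad_identity (e X) (e Y) su ε (Units.ne_zero _) h2 hXs hsX hXY
  rw [hε1, inv_one, one_smul, one_smul] at hid
  rw [hε1, one_smul] at hXY
  have hcu : Commute (e X) (e Y) := Units.ext hXY
  set P := ((e X : (Module.End k W)ˣ) : Module.End k W) with hP
  set Q := ((e Y : (Module.End k W)ˣ) : Module.End k W) with hQ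
  have hPQ : Commute P Q := hXY
  have e1 : P * P * Q + Q = P * Q * Q + P := by
    have := congrArg (fun z : Module.End k W => P * z * Q) hid
    simp only [mul_add, add_mul, hP, hQ, Units.mul_inv, Units.inv_mul, mul_one, one_mul, mul_assoc] at this
    simp only [hP, hQ, mul_assoc]
    exact this
  have e2 : P * Q * Q + P = 1 + P * P * Q * Q := by
    -- conjugate the identity by `s`
    have hZ' : e Z = (e X * e Y)⁻¹ := by rw [hZXY, map_inv, map_mul]
    have c1 : (su : Module.End k W) * P = Q * su := congrArg Units.val hsX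
    have c2 : (su : Module.End k W) * Q = ((e Z : (Module.End k W)ˣ) : Module.End k W) * su := congrArg Units.val hsY
    have c1' : (su : Module.End k W) * ((e X)⁻¹ : (Module.End k W)ˣ) = ((e Y)⁻¹ : (Module.End k W)ˣ) * (su : Module.End k W) := by
      have : su * (e X)⁻¹ = (e Y)⁻¹ * su := by
        rw [eq_inv_mul_iff_mul_eq, ← mul_assoc, ← hsX, mul_inv_cancel_right]
      exact congrArg Units.val this
    have c2' : (su : Module.End k W) * ((e Y)⁻¹ : (Module.End k W)ˣ) = ((e Z)⁻¹ : (Module.End k W)ˣ) * (su : Module.End k W) := by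
      have : su * (e Y)⁻¹ = (e Z)⁻¹ * su := by
        rw [eq_inv_mul_iff_mul_eq, ← mul_assoc, ← hsY, mul_inv_cancel_right]
      exact congrArg Units.val this
    have h3 := congrArg (fun z : Module.End k W => (su : Module.End k W) * z) hid
    simp only [mul_add] at h3
    rw [c1, c1', c2, c2', ← add_mul, ← add_mul] at h3
    have h4 := su.isUnit.mul_left_inj.1 h3
    rw [hZ', inv_inv, mul_inv_rev] at h4
    have h5 := congrArg (fun z : Module.End k W => P * (z * Q)) h4
    simp only [Units.val_mul, mul_add, add_mul] at h5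
    rw [Units.inv_mul, mul_one, ← hP, ← hQ] at h5
    have h6 : P * (((e Y)⁻¹ : (Module.End k W)ˣ) * ((e X)⁻¹ : (Module.End k W)ˣ) * Q) = 1 := by
      have : e X * ((e Y)⁻¹ * (e X)⁻¹ * e Y) = 1 := by
        rw [← mul_inv_rev, hcu.eq, mul_inv_rev, inv_mul_cancel_right, mul_inv_cancel]
      exact congrArg Units.val this
    rw [h6] at h5
    have h7 : P * P * Q * Q = P * (P * Q * Q) := by simp only [mul_assoc]
    rw [h7, mul_assoc P Q Q]
    rw [mul_assoc P Q Q] at h5
    exact h5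
  have hpoly := quad_poly P Q hPQ e1 e2
  have hcube : (P ^ 3 - 1) ^ 3 = 0 := by
    have hfac : P ^ 3 - 1 = (P - 1) * (P * P + P + 1) := by
      simp only [sub_mul, mul_add, one_mul, mul_one, pow_three', ← mul_assoc]
      abel
    have hcom : Commute (P - 1) (P * P + P + 1) :=
      ((((Commute.refl P).mul_right (Commute.refl P)).add_right (Commute.refl P)).add_right (Commute.one_right _)).sub_left
        (Commute.one_left _)
    rw [hfac, hcom.mul_pow, pow_three' (P - 1), pow_three (P * P + P + 1), ← mul_assoc ((P - 1) * (P - 1) * (P - 1)), hpoly, zero_mul]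
  have hn : IsUnit ((orderOf (X : H) : ℕ) : Module.End k W) := by
    have hne := hcen _ fun d hd => (Subgroup.mem_centralizer_iff.1 X.2 d hd).symm
    rw [← map_natCast (algebraMap k (Module.End k W))]
    exact (IsUnit.mk0 _ hne).map _
  have hPn : P ^ orderOf (X : H) = 1 := by
    have hX1 : X ^ orderOf (X : H) = 1 := Subtype.ext (by rw [Subgroup.coe_pow, Subgroup.coe_one]; exact pow_orderOf_eq_one _)
    have h' : e X ^ orderOf (X : H) = 1 := by rw [← map_pow, hX1, map_one]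
    rw [hP, ← Units.val_pow_eq_pow_val, h', Units.val_one]
  have hP3 : P ^ 3 = 1 := unipotent_eq_one _ hcube hn (by rw [← pow_mul, mul_comm, pow_mul, hPn, one_pow])
  have hP1 : P = 1 := by
    have h := pow_gcd_eq_one.2 ⟨hP3, hPn⟩
    rwa [Nat.Coprime.gcd_eq_one (T.cop3.coprime_dvd_left (orderOf_dvd_natCard _)).symm, pow_one] at h
  exact congrArg Subtype.val (LinearMap.congr_fun hP1 (⟨x, hx⟩ : W))

end Rep

/-- The main theorem. -/
theorem comm_of_rep : ∀ (n : ℕ) {H : Type u} [Group H] [Finite H] (T : Trio H) {k : Type v} [Field k]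
    [IsAlgClosed k] {V : Type w} [AddCommGroup V] [Module k V] (R : Rep T k V), Nat.card H = n →
    Group.IsSolvable H → ((Nat.card (commutator H) : ℕ) : k) ≠ 0 →
    (∀ g : H, (∀ d ∈ commutator H, g * d = d * g) → ((orderOf g : ℕ) : k) ≠ 0) →
    ∀ g h : H, g * h = h * g := by
  intro n
  induction n using Nat.strong_induction_on with
  | _ n ih =>
  intro H _ _ T k _ _ V _ _ R hn hsol hcard hcen g h
  subst hn
  classical
  rcases subsingleton_or_nontrivial H with hs | hs
  · exact Subsingleton.elim _ _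
  haveI := hsol
  set D := commutator H with hDdef
  haveI hDn : D.Normal := inferInstance
  have hlt : D < ⊤ := Group.IsSolvable.commutator_lt_top_of_nontrivial (G := H)
  have hD : T.Stable D := by
    have : ∀ φ : MulAut H, ∀ d ∈ D, φ d ∈ D := fun φ d hd => by
      have h1 : D.map φ.toMonoidHom ≤ D := by
        rw [hDdef, commutator_def, Subgroup.map_commutator]
        exact Subgroup.commutator_mono le_top le_top
      exact h1 ⟨d, hd, rfl⟩
    exact ⟨this T.σ, this T.τ⟩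
  -- induction on the derived subgroup
  have hDc : ∀ a ∈ D, ∀ b ∈ D, a * b = b * a := by
    intro a ha b hb
    let RD : Rep (T.sub D hD) k V :=
      { ρ := R.ρ.comp D.subtype
        s := R.s
        t := R.t
        s3 := R.s3
        t2 := R.t2
        ts := R.ts
        cs := fun d => R.cs d
        ct := fun d => R.ct d
        zero := R.zero
        inj := fun x y hxy => Subtype.ext (R.inj hxy)
        two := R.two
        three := R.three }
    have hlt' : Nat.card D < Nat.card H :=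
      lt_of_le_of_ne (Subgroup.card_le_card_group D) fun e => hlt.ne (Subgroup.eq_top_of_card_eq D e)
    have hne : ∀ m : ℕ, m ∣ Nat.card D → ((m : ℕ) : k) ≠ 0 := fun m ⟨q, hq⟩ h0 => hcard (by
      rw [hq, Nat.cast_mul, h0, zero_mul])
    exact congrArg Subtype.val (ih _ hlt' (T.sub D hD) RD rfl inferInstance
      (hne _ (Subgroup.card_subgroup_dvd_card _)) (fun d _ => hne _ (orderOf_dvd_natCard d)) ⟨a, ha⟩ ⟨b, hb⟩)
  have hDm : ∀ g h : H, ⁅g, h⁆ ∈ D := fun g h =>
    Subgroup.commutator_mem_commutator (Subgroup.mem_top g) (Subgroup.mem_top h)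
  have hfix : ∀ f : H → kˣ, MulOn D f → ∀ x, R.Wt D f x → x ≠ 0 → ∀ u ∈ D, f (T.σ u) = f u :=
    fun f hf x hx hx0 => R.weight_fixed hD hDc hDdef hcard hf hx hx0
  have hσD : ∀ u ∈ D, T.σ u = u := by
    intro u hu
    refine R.inj (R.ext_weights hDc hcard fun f hf x hx => ?_)
    rcases eq_or_ne x 0 with rfl | hx0
    · simp
    rw [hx _ (hD.1 u hu), hx u hu, hfix f hf x hx hx0 u hu]
  let K : Subgroup H :=
    { carrier := {a | ∀ f : H → kˣ, MulOn D f → (∃ u ∈ D, f u ≠ 1) → ∀ x, R.Wt D f x → R.ρ a x = x}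
      one_mem' := fun f _ _ x _ => by rw [map_one]; rfl
      mul_mem' := fun {a b} ha hb f hf hnt x hx => by rw [R.ρ_mul, hb f hf hnt x hx, ha f hf hnt x hx]
      inv_mem' := fun {a} ha f hf hnt x hx => by
        conv_lhs => rw [← ha f hf hnt x hx]
        exact R.ρ_inv_self a x }
  haveI : K.Normal := ⟨fun a ha g f hf hnt x hx => by
    have hx' := R.wt_ρ hx g⁻¹
    simp only [inv_inv] at hx'
    have := ha _ (fun p hp q hq => by
        show f (g * (p * q) * g⁻¹) = f (g * p * g⁻¹) * f (g * q * g⁻¹)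
        rw [← hf _ (hDn.conj_mem p hp g) _ (hDn.conj_mem q hq g)]
        group)
      (by
        obtain ⟨u, hu, hne⟩ := hnt
        refine ⟨g⁻¹ * u * g, hDn.conj_mem' u hu g, ?_⟩
        show f (g * (g⁻¹ * u * g) * g⁻¹) ≠ 1
        rwa [show g * (g⁻¹ * u * g) * g⁻¹ = u by group]) _ hx'
    rw [R.ρ_mul, R.ρ_mul, this, ← R.ρ_mul, mul_inv_cancel, map_one]
    rfl⟩
  have hK : T.Stable K := by
    constructor
    · intro a ha f hf hnt x hx
      have hx' := R.wt_s hD (R.wt_s hD hx)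
      have := ha _ (fun p hp q hq => by simp only [map_mul, hσD p hp, hσD q hq]; exact hf p hp q hq)
        (by
          obtain ⟨u, hu, hne⟩ := hnt
          exact ⟨u, hu, by simpa only [hσD u hu] using hne⟩) _ hx'
      have h1 := R.cs_apply a (R.s (R.s x))
      rw [this, R.s3_apply] at h1
      exact h1.symm
    · intro a ha f hf hnt x hx
      have hx' := R.wt_t hD hx
      have := ha _ (fun p hp q hq => by simp only [map_mul, hf _ (hD.2 p hp) _ (hD.2 q hq)])
        (by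
          obtain ⟨u, hu, hne⟩ := hnt
          exact ⟨T.τ u, hD.2 u hu, by simpa only [T.τ2] using hne⟩) _ hx'
      have h1 := R.ct_apply a (R.t x)
      rw [this, R.t2_apply] at h1
      exact h1.symm
  have hQσ : ∀ q, (T.quot K hK).σ q = q := by
    intro q
    induction q using QuotientGroup.induction_on with
    | _ a =>
      rw [T.quot_σ_mk K hK, eq_comm, QuotientGroup.eq]
      exact fun f hf hnt x hx => R.commutator_σ_trivial hD hDc hDm hcard hfix hcen hσD hf hnt a hx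
  have hgh : ⁅g, h⁆ ∈ K := by
    rw [← QuotientGroup.eq_one_iff, ← QuotientGroup.mk'_apply, map_commutatorElement,
      commutatorElement_eq_one_iff_mul_comm]
    exact (T.quot K hK).comm_of_σ_trivial hQσ _ _
  rw [← commutatorElement_eq_one_iff_mul_comm]
  refine R.inj (R.ext_weights hDc hcard fun f hf x hx => ?_)
  rw [map_one, Module.End.one_apply]
  by_cases hnt : ∃ u ∈ D, f u ≠ 1
  · exact hgh f hf hnt x hx
  · simp only [not_exists, not_and, not_not] at hnt
    rw [hx _ (hDm g h), hnt _ (hDm g h), Units.val_one, one_smul]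

end CfsgLib.S3Fpf
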