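import Cfsg.Agent.S3Fpf.Basic
import Mathlib.GroupTheory.Commutator.Basic
import Mathlib.Tactic.Group

/-!
A character of an abelian normal subgroup with commutative quotient, fixed by an involution of the
symmetric group of degree three, is fixed by the whole group and kills all commutators.
-/

set_option autoImplicit false
set_option linter.style.haveILetI false
set_option linter.unusedSectionVars false

namespace CfsgLib.S3Fpf

open scoped commutatorElement

variable {H : Type*} [Group H] [Finite H] (T : Trio H) (D : Subgroup H) [D.Normal]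
  {E : Type*} [CommGroup E]

/-- A multiplicative function on `D`. -/
def MulOn (f : H → E) : Prop := ∀ a ∈ D, ∀ b ∈ D, f (a * b) = f a * f b

variable {T D} {f : H → E} (hf : MulOn D f)

include hf

theorem MulOn.one : f 1 = 1 := by
  have h := hf 1 D.one_mem 1 D.one_mem
  rw [one_mul] at h
  exact left_eq_mul.1 h

theorem MulOn.inv {a : H} (ha : a ∈ D) : f a⁻¹ = (f a)⁻¹ := by
  apply eq_inv_of_mul_eq_one_left
  rw [← hf a⁻¹ (D.inv_mem ha) a ha, inv_mul_cancel, hf.one]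

theorem MulOn.pow {a : H} (ha : a ∈ D) : ∀ n : ℕ, f (a ^ n) = f a ^ n
  | 0 => by rw [pow_zero, pow_zero, hf.one]
  | n + 1 => by rw [pow_succ, pow_succ, hf _ (D.pow_mem ha n) a ha, MulOn.pow ha n]

theorem MulOn.eq_one_of_pow (T : Trio H) {n : ℕ} (hn : (Nat.card H).Coprime n) {a : H} (ha : a ∈ D)
    (h : f a ^ n = 1) : f a = 1 := by
  have h1 : f a ^ Nat.card H = 1 := by rw [← hf.pow ha, pow_card_eq_one', hf.one]
  have := pow_gcd_eq_one.2 ⟨h1, h⟩
  rwa [Nat.Coprime.gcd_eq_one hn, pow_one] at this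

omit hf

/-- The stabilizer of a character under conjugation. -/
def stabF (hDc : ∀ a ∈ D, ∀ b ∈ D, a * b = b * a) (f : H → E) : Subgroup H where
  carrier := {h | ∀ u ∈ D, f (h * u * h⁻¹) = f u}
  one_mem' := fun u _ => by simp
  mul_mem' := fun {a b} ha hb u hu => by
    rw [show a * b * u * (a * b)⁻¹ = a * (b * u * b⁻¹) * a⁻¹ by group,
      ha _ ((inferInstance : D.Normal).conj_mem u hu b), hb u hu]
  inv_mem' := fun {a} ha u hu => by
    have h := ha (a⁻¹ * u * a) ((inferInstance : D.Normal).conj_mem' u hu a)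
    rw [show a * (a⁻¹ * u * a) * a⁻¹ = u by group] at h
    rw [inv_inv]
    exact h.symm

variable (hDc : ∀ a ∈ D, ∀ b ∈ D, a * b = b * a) (hD : ∀ g h : H, ⁅g, h⁆ ∈ D) (hst : T.Stable D)

theorem le_stabF : D ≤ stabF hDc f := fun a ha u hu => by
  rw [hDc a ha u hu, mul_inv_cancel_right]

include hDc hD hst hf

/-- A character fixed by `τ` but not by `σ`, all whose conjugates have nontrivial stabilizers, is
invariant under conjugation. -/
theorem stabF_eq_top (hfτ : ∀ u ∈ D, f (T.τ u) = f u) (hfσ : ∃ u ∈ D, f (T.σ u) ≠ f u)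
    (hw : ∀ h : H, (∀ u ∈ D, f (h * T.σ u * h⁻¹) = f (h * u * h⁻¹)) ∨
      (∀ u ∈ D, f (h * T.τ u * h⁻¹) = f (h * u * h⁻¹)) ∨
      (∀ u ∈ D, f (h * T.σ (T.τ u) * h⁻¹) = f (h * u * h⁻¹)) ∨
      (∀ u ∈ D, f (h * T.σ (T.σ (T.τ u)) * h⁻¹) = f (h * u * h⁻¹))) :
    ∀ h : H, ∀ u ∈ D, f (h * u * h⁻¹) = f u := by
  classical
  have hDn : D.Normal := inferInstance
  set S := stabF hDc f with hS
  haveI : S.Normal := ⟨fun s hs g => by
    have h1 : g * s * g⁻¹ * s⁻¹ ∈ S := le_stabF hDc (hD g s)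
    have h2 := S.mul_mem h1 hs
    rwa [inv_mul_cancel_right] at h2⟩
  set π := QuotientGroup.mk' S with hπdef
  set δ := QuotientGroup.mk' D with hδdef
  have hπc : ∀ a b, π a * π b = π b * π a := fun a b => by
    rw [← commutatorElement_eq_one_iff_mul_comm, ← map_commutatorElement, hπdef, QuotientGroup.mk'_apply,
      QuotientGroup.eq_one_iff]
    exact le_stabF hDc (hD a b)
  have hδc : ∀ a b, δ a * δ b = δ b * δ a := fun a b => by
    rw [← commutatorElement_eq_one_iff_mul_comm, ← map_commutatorElement, hδdef, QuotientGroup.mk'_apply,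
      QuotientGroup.eq_one_iff]
    exact hD a b
  have hDq : ∀ a b : H ⧸ D, Commute a b := fun a b => by
    obtain ⟨a, rfl⟩ := QuotientGroup.mk'_surjective D a
    obtain ⟨b, rfl⟩ := QuotientGroup.mk'_surjective D b
    exact hδc a b
  haveI : Std.Commutative (α := H ⧸ D) (· * ·) := ⟨fun a b => hDq a b⟩
  have hδπ : ∀ {a b}, δ a = δ b → π a = π b := fun {a b} h =>
    QuotientGroup.eq.2 (le_stabF hDc (QuotientGroup.eq.1 h))
  have hδσ : ∀ {a b}, δ a = δ b → δ (T.σ a) = δ (T.σ b) := fun {a b} h => by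
    refine QuotientGroup.eq.2 ?_
    rw [← map_inv, ← map_mul]
    exact hst.1 _ (QuotientGroup.eq.1 h)
  have hδτ : ∀ {a b}, δ a = δ b → δ (T.τ a) = δ (T.τ b) := fun {a b} h => by
    refine QuotientGroup.eq.2 ?_
    rw [← map_inv, ← map_mul]
    exact hst.2 _ (QuotientGroup.eq.1 h)
  have hSτ : ∀ s ∈ S, T.τ s ∈ S := fun s hs u hu => by
    have h1 : T.τ s * u * (T.τ s)⁻¹ = T.τ (s * T.τ u * s⁻¹) := by
      rw [map_mul, map_mul, map_inv, T.τ2]
    rw [h1, hfτ _ (hDn.conj_mem _ (hst.2 u hu) s), hs _ (hst.2 u hu), hfτ u hu]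
  have hπτ : ∀ {a b}, π a = π b → π (T.τ a) = π (T.τ b) := fun {a b} h => by
    refine QuotientGroup.eq.2 ?_
    rw [← map_inv, ← map_mul]
    exact hSτ _ (QuotientGroup.eq.1 h)
  -- two conjugates with the same stabilizing element
  have htwo : ∀ (φ : MulAut H), (∀ u ∈ D, φ u ∈ D) → ∀ (x : H) (j d : ℕ),
      (∀ u ∈ D, f (x ^ j * φ u * (x ^ j)⁻¹) = f (x ^ j * u * (x ^ j)⁻¹)) →
      (∀ u ∈ D, f (x ^ (j + d) * φ u * (x ^ (j + d))⁻¹) = f (x ^ (j + d) * u * (x ^ (j + d))⁻¹)) →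
      π (φ.symm x) ^ d = π x ^ d := by
    intro φ hφ x j d h1 h2
    have hmem : x ^ j * (φ.symm x) ^ d * (x ^ (j + d))⁻¹ ∈ S := by
      intro u hu
      set u' := (x ^ (j + d))⁻¹ * u * x ^ (j + d) with hu'
      have hu'D : u' ∈ D := hDn.conj_mem' u hu _
      have e1 := h2 u' hu'D
      have e2 := h1 ((φ.symm x) ^ d * u' * ((φ.symm x) ^ d)⁻¹) (hDn.conj_mem _ hu'D _)
      rw [map_mul, map_mul, map_inv, map_pow, MulEquiv.apply_symm_apply] at e2
      have e3 : x ^ j * (x ^ d * φ u' * (x ^ d)⁻¹) * (x ^ j)⁻¹ = x ^ (j + d) * φ u' * (x ^ (j + d))⁻¹ := by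
        rw [pow_add]; group
      rw [e3, e1] at e2
      have e4 : x ^ (j + d) * u' * (x ^ (j + d))⁻¹ = u := by rw [hu']; group
      rw [e4] at e2
      have e5 : x ^ j * φ.symm x ^ d * (x ^ (j + d))⁻¹ * u * (x ^ j * φ.symm x ^ d * (x ^ (j + d))⁻¹)⁻¹ =
          x ^ j * (φ.symm x ^ d * u' * (φ.symm x ^ d)⁻¹) * (x ^ j)⁻¹ := by rw [hu']; group
      rw [e5, ← e2]
    have h := (QuotientGroup.eq_one_iff _).2 hmem
    have h' : π (x ^ j * (φ.symm x) ^ d * (x ^ (j + d))⁻¹) = 1 := h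
    rw [map_mul, map_mul, map_inv, map_pow, map_pow, map_pow, pow_add, mul_inv_eq_one] at h'
    exact mul_left_cancel h'
  -- inverted elements
  have hinvert : ∀ x : H, δ (T.τ x) = (δ x)⁻¹ →
      (δ x * δ (T.σ x) * δ (T.σ (T.σ x)) = 1 ∨ δ (T.σ x) = δ x) → x ∈ S := by
    suffices key : ∀ x : H, δ (T.τ x) = (δ x)⁻¹ →
        (δ x * δ (T.σ x) * δ (T.σ (T.σ x)) = 1 ∨ δ (T.σ x) = δ x) → (orderOf (π x)).Prime → False by
      intro x hx hty
      by_contra hxS
      have hne : π x ≠ 1 := fun h => hxS ((QuotientGroup.eq_one_iff x).1 h)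
      set m := orderOf (π x)
      obtain ⟨r, hr, e, he⟩ := Nat.exists_prime_and_dvd (show m ≠ 1 from fun h => hne (orderOf_eq_one_iff.1 h))
      have he0 : e ≠ 0 := fun h0 => (orderOf_pos (π x)).ne' (by rw [show orderOf (π x) = r * e from he, h0, mul_zero])
      refine key (x ^ e) ?_ ?_ ?_
      · rw [map_pow, map_pow, map_pow, hx, inv_pow]
      · refine hty.imp (fun h => ?_) fun h => ?_
        · simp only [map_pow]
          rw [← (hDq _ _).mul_pow, ← (hDq _ _).mul_pow, h, one_pow]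
        · simp only [map_pow, h]
      · rw [map_pow, orderOf_pow_of_dvd he0 ⟨r, by rw [mul_comm]; exact he⟩, show orderOf (π x) = r * e from he,
          Nat.mul_div_cancel _ (Nat.pos_of_ne_zero he0)]
        exact hr
    intro x hx hty hr
    set X := π x with hX
    set r := orderOf X with hrdef
    have hrH : r ∣ Nat.card H := (orderOf_map_dvd π x).trans (orderOf_dvd_natCard x)
    have hr5 : 5 ≤ r := by
      have h2 : r ≠ 2 := fun h => by
        have := Nat.eq_one_of_dvd_coprimes T.cop2 (h ▸ hrH) dvd_rfl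
        omega
      have h3 : r ≠ 3 := fun h => by
        have := Nat.eq_one_of_dvd_coprimes T.cop3 (h ▸ hrH) dvd_rfl
        omega
      have h4 : r ≠ 4 := fun h => by
        have hr' : r.Prime := hr
        rw [h] at hr'
        exact absurd hr' (by decide)
      have := hr.two_le
      omega
    have hX1 : X ≠ 1 := fun h => by
      rw [hrdef, h, orderOf_one] at hr5
      omega
    have hcancel : ∀ (Y : H ⧸ S) (d : ℕ), 0 < d → d < 5 → Y ^ d = X ^ d → Y = X := by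
      intro Y d hd hd5 h
      obtain ⟨w, rfl⟩ := QuotientGroup.mk'_surjective S Y
      have h1 : (π w * X⁻¹) ^ d = 1 := by
        rw [Commute.mul_pow ((show Commute (π w) X from hπc w x).inv_right), h, inv_pow, mul_inv_cancel]
      have h2 : orderOf (π w * X⁻¹) ∣ Nat.card H := by
        rw [hX, ← map_inv, ← map_mul]
        exact (orderOf_map_dvd π _).trans (orderOf_dvd_natCard _)
      have hcop : (Nat.card H).Coprime d := by
        interval_cases d
        · exact Nat.coprime_one_right _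
        · exact T.cop2
        · exact T.cop3
        · exact T.cop2.mul_right T.cop2
      exact mul_inv_eq_one.1 (orderOf_eq_one_iff.1
        (Nat.eq_one_of_dvd_coprimes hcop h2 (orderOf_dvd_of_pow_eq_one h1)))
    have hxπ : π (T.τ x) = X⁻¹ := by
      rw [hX, ← map_inv]; exact hδπ (by rw [hx, map_inv])
    -- each conjugate is fixed by one of four elements; two share one
    let gs : Fin 4 → MulAut H := ![T.σ, T.τ, T.σ * T.τ, T.σ * T.σ * T.τ]
    have hgs : ∀ j : Fin 5, ∃ i : Fin 4, ∀ u ∈ D, f (x ^ (j : ℕ) * gs i u * (x ^ (j : ℕ))⁻¹) =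
        f (x ^ (j : ℕ) * u * (x ^ (j : ℕ))⁻¹) := by
      intro j
      rcases hw (x ^ (j : ℕ)) with h | h | h | h
      · exact ⟨0, h⟩
      · exact ⟨1, h⟩
      · exact ⟨2, h⟩
      · exact ⟨3, h⟩
    choose c hc using hgs
    obtain ⟨j₁, j₂, hlt, hceq⟩ : ∃ j₁ j₂ : Fin 5, j₁ < j₂ ∧ c j₁ = c j₂ := by
      obtain ⟨a, b, hab, he⟩ := Fintype.exists_ne_map_eq_of_card_lt c (by simp)
      rcases lt_or_gt_of_ne hab with h | h
      · exact ⟨a, b, h, he⟩
      · exact ⟨b, a, h, he.symm⟩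
    have hgD : ∀ i : Fin 4, ∀ u ∈ D, gs i u ∈ D := by
      intro i u hu
      fin_cases i
      · exact hst.1 u hu
      · exact hst.2 u hu
      · exact hst.1 _ (hst.2 u hu)
      · exact hst.1 _ (hst.1 _ (hst.2 u hu))
    have hlt' : (j₁ : ℕ) < (j₂ : ℕ) := hlt
    have h5 : (j₂ : ℕ) < 5 := j₂.2
    have hbase := hcancel _ _ (show 0 < (j₂ : ℕ) - j₁ by omega) (by omega)
      (htwo (gs (c j₁)) (hgD _) x j₁ ((j₂ : ℕ) - j₁) (hc j₁)
        (by rw [show (j₁ : ℕ) + ((j₂ : ℕ) - j₁) = j₂ by omega, hceq]; exact hc j₂))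
    have hfixj := hc j₁
    have hπsq : ∀ {a : H ⧸ S}, a⁻¹ = X → a = X⁻¹ := fun {a} h => by rw [← h, inv_inv]
    have hfinish : ∀ a b : H ⧸ S, π (T.σ x) = a → π (T.σ (T.σ x)) = b → (a = X ∧ b = X ∨ a = X⁻¹ ∧ b = X⁻¹) →
        (δ x * δ (T.σ x) * δ (T.σ (T.σ x)) = 1) → False := by
      intro a b ha hb hab hA
      have hA' : π (x * T.σ x * T.σ (T.σ x)) = 1 := by
        rw [← map_one π]; refine hδπ ?_
        rw [map_mul, map_mul, hA, map_one]
      rw [map_mul, map_mul, ha, hb, ← hX] at hA'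
      rcases hab with ⟨rfl, rfl⟩ | ⟨rfl, rfl⟩
      · have : orderOf X ∣ 3 := orderOf_dvd_of_pow_eq_one (by rw [pow_succ, sq]; exact hA')
        have := Nat.le_of_dvd (by norm_num) this
        omega
      · rw [mul_inv_cancel, one_mul, inv_eq_one] at hA'
        exact hX1 hA'
    generalize c j₁ = i at hbase hfixj
    obtain rfl | rfl | rfl | rfl : i = 0 ∨ i = 1 ∨ i = 2 ∨ i = 3 := by omega
    · -- σ
      have hsym : gs 0 = T.σ := rfl
      have e2 : π (T.σ (T.σ x)) = X := by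
        rw [← hbase]; congr 1
        rw [hsym, eq_comm, MulEquiv.symm_apply_eq, T.σ3]
      rcases hty with hA | hB
      · refine hfinish _ _ rfl rfl (Or.inl ⟨?_, e2⟩) hA
        have e3 : π (T.τ (T.σ (T.σ x))) = π (T.τ x) := hπτ (e2.trans hX.symm)
        rw [T.τσσ, hxπ, hδπ (hδσ (hx.trans (map_inv δ x).symm)), map_inv, map_inv, inv_inj] at e3
        exact e3
      · obtain ⟨u, hu, hne⟩ := hfσ
        refine hne ?_
        set h := x ^ (j₁ : ℕ)
        have hh : δ (T.σ h) = δ h := by simp only [h, map_pow, hB]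
        have hh2 : δ (T.σ (T.σ h)) = δ h := (hδσ hh).trans hh
        have hmem : ∀ w ∈ D, T.σ (T.σ h) * w * (T.σ (T.σ h))⁻¹ = h * w * h⁻¹ := by
          intro w hw'
          have hd := QuotientGroup.eq.1 hh2.symm
          conv_lhs => rw [← mul_inv_cancel_left h (T.σ (T.σ h))]
          rw [show h * (h⁻¹ * T.σ (T.σ h)) * w * (h * (h⁻¹ * T.σ (T.σ h)))⁻¹ =
            h * ((h⁻¹ * T.σ (T.σ h)) * w * (h⁻¹ * T.σ (T.σ h))⁻¹) * h⁻¹ by group, hDc _ hd w hw', mul_inv_cancel_right]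
        have e := hfixj (h⁻¹ * u * h) (hDn.conj_mem' u hu h)
        rw [hsym] at e
        rw [show h * (h⁻¹ * u * h) * h⁻¹ = u by group] at e
        rw [← e]
        congr 1
        have := congrArg T.σ (hmem (h⁻¹ * u * h) (hDn.conj_mem' u hu h))
        rw [map_mul, map_mul, map_inv, T.σ3, show h * (h⁻¹ * u * h) * h⁻¹ = u by group] at this
        exact this.symm
    · -- τ
      have hsym : gs 1 = T.τ := rfl
      have e : π (T.τ x) = X := by
        rw [← hbase]; congr 1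
        rw [hsym, eq_comm, MulEquiv.symm_apply_eq, T.τ2]
      rw [hxπ, inv_eq_iff_mul_eq_one, ← sq] at e
      exact hX1 (orderOf_eq_one_iff.1 (Nat.eq_one_of_dvd_coprimes T.cop2 hrH (orderOf_dvd_of_pow_eq_one e)))
    · -- σ τ
      have hsym : gs 2 = T.σ * T.τ := rfl
      have e : π (T.σ (T.τ x)) = X := by
        rw [← hbase]; congr 1
        rw [hsym, eq_comm, MulEquiv.symm_apply_eq, MulAut.mul_apply]
        rw [T.τσ, T.τ2, T.σ3]
      have e1 : π (T.σ x) = X⁻¹ := by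
        refine hπsq ?_
        rw [← map_inv, ← e]
        exact hδπ (by rw [hδσ (hx.trans (map_inv δ x).symm), map_inv T.σ])
      have e2 : π (T.σ (T.σ x)) = X⁻¹ := by
        have e3 : π (T.τ (T.σ x)) = π (T.τ x⁻¹) := hπτ (e1.trans (map_inv π x).symm)
        rw [T.τσ, map_inv, map_inv, hxπ, inv_inv, hδπ (hδσ (hδσ (hx.trans (map_inv δ x).symm))), map_inv, map_inv, map_inv] at e3
        exact hπsq e3
      rcases hty with hA | hB
      · exact hfinish _ _ e1 e2 (Or.inr ⟨rfl, rfl⟩) hA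
      · rw [hδπ hB, ← hX, eq_inv_iff_mul_eq_one, ← sq] at e1
        exact hX1 (orderOf_eq_one_iff.1 (Nat.eq_one_of_dvd_coprimes T.cop2 hrH (orderOf_dvd_of_pow_eq_one e1)))
    · -- σ² τ
      have hsym : gs 3 = T.σ * T.σ * T.τ := rfl
      have e : π (T.σ (T.σ (T.τ x))) = X := by
        rw [← hbase]; congr 1
        rw [hsym, eq_comm, MulEquiv.symm_apply_eq, MulAut.mul_apply, MulAut.mul_apply]
        rw [T.τσσ, T.τ2, T.σ3]
      have e2 : π (T.σ (T.σ x)) = X⁻¹ := by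
        refine hπsq ?_
        rw [← map_inv, ← e]
        exact hδπ (by rw [hδσ (hδσ (hx.trans (map_inv δ x).symm)), map_inv T.σ, map_inv T.σ])
      have e1 : π (T.σ x) = X⁻¹ := by
        have e3 : π (T.τ (T.σ (T.σ x))) = π (T.τ x⁻¹) := hπτ (e2.trans (map_inv π x).symm)
        rw [T.τσσ, map_inv, map_inv, hxπ, inv_inv, hδπ (hδσ (hx.trans (map_inv δ x).symm)), map_inv, map_inv] at e3
        exact hπsq e3
      rcases hty with hA | hB
      · exact hfinish _ _ e1 e2 (Or.inr ⟨rfl, rfl⟩) hA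
      · rw [hδπ hB, ← hX, eq_inv_iff_mul_eq_one, ← sq] at e1
        exact hX1 (orderOf_eq_one_iff.1 (Nat.eq_one_of_dvd_coprimes T.cop2 hrH (orderOf_dvd_of_pow_eq_one e1)))
  have hinv_all : ∀ x : H, δ (T.τ x) = (δ x)⁻¹ → x ∈ S := by
    intro x hx
    set n := x * T.σ x * T.σ (T.σ x) with hn
    have hnσ : δ (T.σ n) = δ n := by
      simp only [hn, map_mul, T.σ3]
      ac_rfl
    have hnτ : δ (T.τ n) = (δ n)⁻¹ := by
      simp only [hn, map_mul, T.τσσ]
      simp only [T.τσ, hδσ (hx.trans (map_inv δ x).symm), hδσ (hδσ (hx.trans (map_inv δ x).symm)), hx, map_inv, mul_inv_rev]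
      rw [← mul_assoc, mul_assoc (δ x)⁻¹]; exact (hDq _ _).eq
    have hnS := hinvert n hnτ (Or.inr hnσ)
    have hc3 : Commute (δ (x ^ 3)) (δ n⁻¹) := hδc _ _
    have hy : x ^ 3 * n⁻¹ ∈ S := by
      refine hinvert _ ?_ (Or.inl ?_)
      · simp only [map_mul, map_inv, map_pow, hx, hnτ, inv_inv, inv_pow, mul_inv_rev]
        ac_rfl
      · have h2 : δ (T.σ (T.σ n)) = δ n := (hδσ hnσ).trans hnσ
        simp only [map_mul, map_inv, map_pow, hnσ, h2]
        have h3 : δ x ^ 3 * δ (T.σ x) ^ 3 * δ (T.σ (T.σ x)) ^ 3 = δ n ^ 3 := by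
          rw [hn, map_mul, map_mul, (hDq _ _).mul_pow, (hDq _ _).mul_pow]
        have hcomm : ∀ a b : H ⧸ D, a * b = b * a := fun a b => by
          obtain ⟨a, rfl⟩ := QuotientGroup.mk'_surjective D a
          obtain ⟨b, rfl⟩ := QuotientGroup.mk'_surjective D b
          exact hδc a b
        letI : CommGroup (H ⧸ D) := { (inferInstance : Group (H ⧸ D)) with mul_comm := hcomm }
        calc δ x ^ 3 * (δ n)⁻¹ * (δ (T.σ x) ^ 3 * (δ n)⁻¹) * (δ (T.σ (T.σ x)) ^ 3 * (δ n)⁻¹)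
            = δ x ^ 3 * δ (T.σ x) ^ 3 * δ (T.σ (T.σ x)) ^ 3 * ((δ n) ^ 3)⁻¹ := by
              simp only [pow_succ, pow_zero, one_mul, mul_inv_rev]; ac_rfl
          _ = 1 := by rw [h3, mul_inv_cancel]
    have h4 := S.mul_mem hy hnS
    rw [inv_mul_cancel_right] at h4
    exact Trio.mem_of_pow_mem T.cop3 h4
  -- fixed elements
  have hplus : ∀ y : H, δ (T.τ y) = δ y → y ∈ S := by
    intro y hy
    have hyy : π (T.σ (T.σ y)) = π (T.σ y) := by
      refine (QuotientGroup.eq (s := S)).2 (hinv_all _ ?_)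
      simp only [map_mul, map_inv, T.τσσ, T.τσ, hδσ hy, hδσ (hδσ hy), mul_inv_rev, inv_inv]
    have hN : y * T.σ y * T.σ (T.σ y) ∈ D := by
      refine T.mem_of_fixed hst ?_ ?_
      · refine QuotientGroup.eq.1 ?_
        show δ (y * T.σ y * T.σ (T.σ y)) = δ (T.σ (y * T.σ y * T.σ (T.σ y)))
        simp only [map_mul, T.σ3]
        ac_rfl
      · refine QuotientGroup.eq.1 ?_
        show δ (y * T.σ y * T.σ (T.σ y)) = δ (T.τ (y * T.σ y * T.σ (T.σ y)))
        simp only [map_mul, T.τσσ, T.τσ, hδσ hy, hδσ (hδσ hy), hy]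
        ac_rfl
    have hconj : ∀ (a b : H), π a = π b → ∀ u ∈ D, f (a * u * a⁻¹) = f (b * u * b⁻¹) := by
      intro a b hab u hu
      have h1 : b * a⁻¹ ∈ S := by
        have := (QuotientGroup.eq_one_iff (N := S) (b * a⁻¹)).1 (by
          show π (b * a⁻¹) = 1
          rw [map_mul, map_inv, hab, mul_inv_cancel])
        exact this
      have h2 := h1 (a * u * a⁻¹) (hDn.conj_mem u hu a)
      rw [show b * a⁻¹ * (a * u * a⁻¹) * (b * a⁻¹)⁻¹ = b * u * b⁻¹ by group] at h2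
      exact h2.symm
    have hdconj : ∀ (a b : H), δ a = δ b → ∀ u ∈ D, a * u * a⁻¹ = b * u * b⁻¹ := by
      intro a b hab u hu
      have hd := QuotientGroup.eq.1 hab
      conv_rhs => rw [← mul_inv_cancel_left a b]
      rw [show a * (a⁻¹ * b) * u * (a * (a⁻¹ * b))⁻¹ = a * ((a⁻¹ * b) * u * (a⁻¹ * b)⁻¹) * a⁻¹ by group,
        hDc _ hd u hu, mul_inv_cancel_right]
    have hpm : ∀ u ∈ D, (T.τ u = u ∨ T.τ u = u⁻¹) → f (y * u * y⁻¹) = f (T.σ y * u * (T.σ y)⁻¹) := by
      intro u hu hcase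
      rcases hcase with hp | hm
      · -- the product over the three rotations is fixed
        set v := u * T.σ u * T.σ (T.σ u) with hv
        set P := y * u * y⁻¹ * (T.σ y * T.σ u * (T.σ y)⁻¹) * (T.σ (T.σ y) * T.σ (T.σ u) * (T.σ (T.σ y))⁻¹) with hP
        have m1 := hDn.conj_mem u hu y
        have m2 := hDn.conj_mem _ (hst.1 _ hu) (T.σ y)
        have m3 := hDn.conj_mem _ (hst.1 _ (hst.1 _ hu)) (T.σ (T.σ y))
        have hP1 : P = 1 := by
          apply T.fpf
          · simp only [hP, map_mul, map_inv, T.σ3]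
            exact (hDc _ (D.mul_mem m2 m3) _ m1).trans (mul_assoc _ _ _).symm
          · simp only [hP, map_mul, map_inv, T.τσσ, T.τσ, hp]
            rw [hdconj _ _ hy u hu, hdconj _ _ (hδσ hy) _ (hst.1 _ hu),
              hdconj _ _ (hδσ (hδσ hy)) _ (hst.1 _ (hst.1 _ hu))]
            rw [mul_assoc, mul_assoc (y * u * y⁻¹), hDc _ m3 _ m2]
        have hv1 : v = 1 := by
          apply T.fpf
          · simp only [hv, map_mul, T.σ3]
            exact (hDc _ (D.mul_mem (hst.1 _ hu) (hst.1 _ (hst.1 _ hu))) _ hu).trans (mul_assoc _ _ _).symm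
          · simp only [hv, map_mul, T.τσσ, T.τσ, hp]
            rw [mul_assoc, mul_assoc u, hDc _ (hst.1 _ (hst.1 _ hu)) _ (hst.1 _ hu)]
        have h1 := congrArg f hP1
        rw [hP, hf _ (D.mul_mem m1 m2) _ m3, hf _ m1 _ m2, hf.one,
          hconj _ _ hyy _ (hst.1 _ (hst.1 _ hu))] at h1
        have h2 : f (T.σ y * T.σ u * (T.σ y)⁻¹) * f (T.σ y * T.σ (T.σ u) * (T.σ y)⁻¹) =
            (f (T.σ y * u * (T.σ y)⁻¹))⁻¹ := by
          rw [← hf _ m2 _ (hDn.conj_mem _ (hst.1 _ (hst.1 _ hu)) _), ← hf.inv (hDn.conj_mem u hu _)]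
          congr 1
          have : T.σ u * T.σ (T.σ u) = u⁻¹ := eq_inv_of_mul_eq_one_right (by rw [← mul_assoc, ← hv, hv1])
          rw [show T.σ y * T.σ u * (T.σ y)⁻¹ * (T.σ y * T.σ (T.σ u) * (T.σ y)⁻¹) = T.σ y * (T.σ u * T.σ (T.σ u)) * (T.σ y)⁻¹ by group, this]
          group
        rw [mul_assoc, h2, mul_inv_eq_one] at h1
        exact h1
      · have hz : ∀ z : H, π (T.τ z) = π z → f (z * u * z⁻¹) = 1 := by
          intro z hz
          have e1 := hfτ _ (hDn.conj_mem u hu z)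
          rw [map_mul, map_mul, map_inv, hm, hconj _ _ hz _ (D.inv_mem hu),
            show z * u⁻¹ * z⁻¹ = (z * u * z⁻¹)⁻¹ by group, hf.inv (hDn.conj_mem u hu z), inv_eq_iff_mul_eq_one, ← sq] at e1
          exact hf.eq_one_of_pow T T.cop2 (hDn.conj_mem u hu z) e1
        rw [hz y (hδπ hy), hz (T.σ y) (by rw [T.τσ, hδπ (hδσ (hδσ hy)), hyy])]
    have hmem : y⁻¹ * T.σ y ∈ S := by
      refine (QuotientGroup.eq (s := S)).1 ?_
      refine (mul_inv_eq_one.1 ?_).symm
      show π (T.σ y) * (π y)⁻¹ = 1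
      rw [← map_inv, ← map_mul]
      refine (QuotientGroup.eq_one_iff _).2 fun u hu => ?_
      set u' := y⁻¹ * u * y with hu'
      have hu'D : u' ∈ D := hDn.conj_mem' u hu y
      have hp := hpm (u' * T.τ u') (D.mul_mem hu'D (hst.2 _ hu'D))
        (Or.inl (by rw [map_mul, T.τ2]; exact hDc _ (hst.2 _ hu'D) _ hu'D))
      have hm := hpm (u' * (T.τ u')⁻¹) (D.mul_mem hu'D (D.inv_mem (hst.2 _ hu'D)))
        (Or.inr (by rw [map_mul, map_inv, T.τ2, mul_inv_rev (a := u'), inv_inv]))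
      have hsq : ∀ z : H, f (z * (u' * T.τ u') * z⁻¹) * f (z * (u' * (T.τ u')⁻¹) * z⁻¹) = f (z * u' * z⁻¹) ^ 2 := by
        intro z
        rw [sq, ← hf _ (hDn.conj_mem _ (D.mul_mem hu'D (hst.2 _ hu'D)) z) _ (hDn.conj_mem _ (D.mul_mem hu'D (D.inv_mem (hst.2 _ hu'D))) z),
          ← hf _ (hDn.conj_mem _ hu'D z) _ (hDn.conj_mem _ hu'D z)]
        congr 1
        rw [show z * (u' * T.τ u') * z⁻¹ * (z * (u' * (T.τ u')⁻¹) * z⁻¹) = z * (u' * (T.τ u' * u') * (T.τ u')⁻¹) * z⁻¹ by group,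
          hDc _ (hst.2 _ hu'D) _ hu'D]
        group
      have e := (hsq (T.σ y)).symm.trans (by rw [← hp, ← hm, hsq y])
      have hmy := hDn.conj_mem _ hu'D y
      have hmσ := hDn.conj_mem _ hu'D (T.σ y)
      have e2 : f ((T.σ y * u' * (T.σ y)⁻¹) * (y * u' * y⁻¹)⁻¹) ^ 2 = 1 := by
        rw [hf _ hmσ _ (D.inv_mem hmy), hf.inv hmy, mul_pow, inv_pow, e, mul_inv_cancel]
      have e3 := hf.eq_one_of_pow T T.cop2 (D.mul_mem hmσ (D.inv_mem hmy)) e2
      rw [hf _ hmσ _ (D.inv_mem hmy), hf.inv hmy, mul_inv_eq_one] at e3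
      rw [show y * u' * y⁻¹ = u by rw [hu']; group, show T.σ y * u' * (T.σ y)⁻¹ = T.σ y * y⁻¹ * u * (T.σ y * y⁻¹)⁻¹ by rw [hu']; group] at e3
      exact e3
    have hYσ : π (T.σ y) = π y := ((QuotientGroup.eq (s := S)).2 hmem).symm
    have h3 : π (y ^ 3) = 1 := by
      have : π (y * T.σ y * T.σ (T.σ y)) = 1 := (QuotientGroup.eq_one_iff _).2 (le_stabF hDc hN)
      rw [map_mul, map_mul, hyy, hYσ] at this
      rw [map_pow, pow_succ, sq]
      exact this
    exact Trio.mem_of_pow_mem T.cop3 ((QuotientGroup.eq_one_iff _).1 h3)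
  intro h
  suffices h ∈ S from this
  refine Trio.mem_of_pow_mem T.cop2 (x := h) ?_
  have h1 := hplus (h * T.τ h) (by rw [map_mul, map_mul, T.τ2, map_mul]; exact hδc _ _)
  have h2 := hinv_all (h * (T.τ h)⁻¹) (by simp only [map_mul, map_inv, T.τ2, mul_inv_rev, inv_inv])
  have h3 := S.mul_mem h1 h2
  have h4 : π (h ^ 2) = π (h * T.τ h * (h * (T.τ h)⁻¹)) := by
    have hcc := hπc (T.τ h) h
    simp only [map_mul, map_inv, map_pow, sq]
    rw [mul_assoc, ← mul_assoc (π (T.τ h)), hcc, mul_assoc, mul_inv_cancel, mul_one]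
  refine (QuotientGroup.eq_one_iff _).1 (h4.trans ?_)
  exact (QuotientGroup.eq_one_iff _).2 h3

/-- Such a character kills all commutators. -/
theorem commutator_eq_one (hfτ : ∀ u ∈ D, f (T.τ u) = f u) (hfH : ∀ h : H, ∀ u ∈ D, f (h * u * h⁻¹) = f u)
    (hτc : ∀ g h : H, f ⁅T.τ g, h⁆ = f ⁅g, h⁆) (g h : H) : f ⁅g, h⁆ = 1 := by
  have hDn : D.Normal := inferInstance
  set c : H → H → E := fun a b => f ⁅a, b⁆ with hc
  have hl : ∀ a a' b, c (a * a') b = c a' b * c a b := by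
    intro a a' b
    simp only [hc]
    rw [show ⁅a * a', b⁆ = a * ⁅a', b⁆ * a⁻¹ * ⁅a, b⁆ by simp only [commutatorElement_def]; group,
      hf _ (hDn.conj_mem _ (hD _ _) a) _ (hD _ _), hfH a _ (hD _ _)]
  have hanti : ∀ a b, c a b = (c b a)⁻¹ := by
    intro a b
    simp only [hc]
    rw [← hf.inv (hD b a), commutatorElement_inv]
  have hdl : ∀ d ∈ D, ∀ b, c d b = 1 := by
    intro d hd b
    simp only [hc]
    rw [show ⁅d, b⁆ = d * (b * d⁻¹ * b⁻¹) by simp only [commutatorElement_def]; group,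
      hf d hd _ (hDn.conj_mem _ (D.inv_mem hd) b), hfH b _ (D.inv_mem hd), hf.inv hd, mul_inv_cancel]
  have hcong : ∀ a a', a⁻¹ * a' ∈ D → ∀ b, c a' b = c a b := by
    intro a a' had b
    rw [show a' = a * (a⁻¹ * a') by rw [mul_inv_cancel_left], hl, hdl _ had, one_mul]
  have hτ2 : ∀ a b, c a (T.τ b) = c a b := by
    intro a b
    rw [hanti, show c (T.τ b) a = c b a from hτc b a, ← hanti]
  have hmk : ∀ a b : H, (a⁻¹ * b ∈ D) ↔ (QuotientGroup.mk' D a = QuotientGroup.mk' D b) :=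
    fun a b => (QuotientGroup.eq).symm
  have hδc : ∀ a b : H, QuotientGroup.mk' D a * QuotientGroup.mk' D b = QuotientGroup.mk' D b * QuotientGroup.mk' D a := fun a b => by
    rw [← commutatorElement_eq_one_iff_mul_comm, ← map_commutatorElement, QuotientGroup.mk'_apply, QuotientGroup.eq_one_iff]
    exact hD a b
  have hplus : ∀ y z : H, y⁻¹ * T.τ y ∈ D → z⁻¹ * T.τ z ∈ D → c y z = 1 := by
    intro y z hy hz
    have main : ∀ y : H, y⁻¹ * T.τ y ∈ D → ∀ b, c (T.σ (T.σ y)) b = c (T.σ y) b ∧ c y b * c (T.σ y) b ^ 2 = 1 := by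
      intro y hy b
      have h1 : c (T.σ (T.σ y)) b = c (T.σ y) b := by
        have h2 : c (T.σ (T.σ (T.τ y))) b = c (T.σ (T.σ y)) b := by
          refine hcong _ _ ?_ b
          rw [← map_inv, ← map_mul, ← map_inv, ← map_mul]
          exact hst.1 _ (hst.1 _ hy)
        rw [← h2, ← T.τσ]
        exact hτc (T.σ y) b
      refine ⟨h1, ?_⟩
      have hy' := (hmk _ _).1 hy
      have hN : y * T.σ y * T.σ (T.σ y) ∈ D := by
        refine T.mem_of_fixed hst ((hmk _ _).2 ?_) ((hmk _ _).2 ?_)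
        · simp only [map_mul, T.σ3]
          rw [mul_assoc, ← map_mul, hδc y, map_mul]
        · simp only [map_mul, T.τσσ, T.τσ]
          have a1 : QuotientGroup.mk' D (T.σ (T.τ y)) = QuotientGroup.mk' D (T.σ y) := by
            refine ((hmk _ _).1 ?_).symm
            rw [← map_inv, ← map_mul]; exact hst.1 _ hy
          have a2 : QuotientGroup.mk' D (T.σ (T.σ (T.τ y))) = QuotientGroup.mk' D (T.σ (T.σ y)) := by
            refine ((hmk _ _).1 ?_).symm
            rw [← map_inv, ← map_mul, ← map_inv, ← map_mul]; exact hst.1 _ (hst.1 _ hy)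
          rw [a1, a2, ← hy', mul_assoc, mul_assoc, hδc (T.σ y)]
      have h3 := hdl _ hN b
      rw [hl, hl, h1] at h3
      rw [sq, mul_comm (c y b), mul_assoc]
      exact h3
    set Q := c (T.σ y) (T.σ z) with hQ
    obtain ⟨hy1, hy2⟩ := main y hy z
    obtain ⟨hz1, hz2⟩ := main z hz (T.σ y)
    have hz1' : ∀ a, c a (T.σ (T.σ z)) = c a (T.σ z) := fun a => by rw [hanti, (main z hz a).1, ← hanti]
    have e1 : c (T.σ y) z = (Q ^ 2)⁻¹ := by
      rw [hanti, show c z (T.σ y) = (c (T.σ z) (T.σ y) ^ 2)⁻¹ from eq_inv_of_mul_eq_one_left hz2,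
        hanti (T.σ z), inv_inv, hQ, inv_pow]
    have e2 : c y z = Q ^ 4 := by
      rw [eq_inv_of_mul_eq_one_left hy2, e1, inv_pow, inv_inv, ← pow_mul]
    set u := ⁅y, z⁆ with hu
    have huD : u ∈ D := hD y z
    set v := u * T.σ u * T.σ (T.σ u) with hv
    have hvD : v ∈ D := D.mul_mem (D.mul_mem huD (hst.1 _ huD)) (hst.1 _ (hst.1 _ huD))
    have hvσ : T.σ v = v := by
      simp only [hv, map_mul, T.σ3]
      exact (hDc _ (D.mul_mem (hst.1 _ huD) (hst.1 _ (hst.1 _ huD))) _ huD).trans (mul_assoc _ _ _).symm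
    have hp : v * T.τ v = 1 := by
      apply T.fpf
      · rw [map_mul, hvσ, ← T.τσσ, hvσ, hvσ]
      · rw [map_mul, T.τ2]
        exact hDc _ (hst.2 _ hvD) _ hvD
    have hfv : f v = Q ^ 6 := by
      rw [hv, hf _ (D.mul_mem huD (hst.1 _ huD)) _ (hst.1 _ (hst.1 _ huD)), hf _ huD _ (hst.1 _ huD), hu,
        map_commutatorElement, map_commutatorElement]
      show c y z * c (T.σ y) (T.σ z) * c (T.σ (T.σ y)) (T.σ (T.σ z)) = _
      rw [e2, (main y hy _).1, hz1', ← hQ, ← pow_succ, ← pow_succ]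
    have h12 : f v ^ 2 = 1 := by
      rw [sq]
      nth_rw 2 [← hfτ v hvD]
      rw [← hf _ hvD _ (hst.2 _ hvD), hp, hf.one]
    have hfv1 := hf.eq_one_of_pow T T.cop2 hvD h12
    have hQD : ⁅T.σ y, T.σ z⁆ ∈ D := hD _ _
    have hQ1 : Q = 1 := hf.eq_one_of_pow T T.cop hQD (hfv.symm.trans hfv1)
    rw [e2, hQ1, one_pow]
  have hg : ∀ x : H, (x * T.τ x)⁻¹ * T.τ (x * T.τ x) ∈ D := fun x => by
    rw [map_mul, T.τ2, hmk, map_mul, map_mul, hδc]
  have hkey := hplus _ _ (hg g) (hg h)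
  have hτ1 : ∀ a b, c (T.τ a) b = c a b := hτc
  have e : c g (h * T.τ h) = c g h ^ 2 := by
    rw [hanti, hl, hτ1, ← sq, hanti h g, inv_pow, inv_inv]
  rw [hl, hτ1, ← sq, e, ← pow_mul] at hkey
  have h4 : f ⁅g, h⁆ ^ 4 = 1 := hkey
  exact hf.eq_one_of_pow T (T.cop2.mul_right T.cop2) (hD g h) h4

end CfsgLib.S3Fpf
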